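import Mathlib
import Cfsg.Agent.H2.CommInv
import Cfsg.Agent.KFacts.RgdFiltChev
import Cfsg.Agent.Nodes.OppDec
import Cfsg.Agent.ChevalleyStructure.B2Sp4
import Cfsg.Agent.Nodes.RGDChev

/-!
# Noncommuting involutions in a 2-subgroup (helper265)

* `not_commInv_of_rgd` : a group with root groups of exponent 2 and two non-orthogonal simple roots;
* `not_commInv_chev`, `not_commInv_pSp`, `not_commInv_gTwo`.
-/

set_option autoImplicit false
set_option linter.unusedSectionVars false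

namespace Cfsg.Agent.H265.QTRgd

open Cfsg Cfsg.Lie
open CoxeterSystem Cfsg.Agent.ChevalleyStructure.CoxeterGeom Cfsg.Agent.Tits.Roots Cfsg.Agent.Tits.Core
  Cfsg.Agent.Tits.RootComb Cfsg.Agent.Nodes.Comb Cfsg.Agent.Nodes.Reps Cfsg.Agent.Nodes.BNOf
  Cfsg.Agent.Nodes.Bruhat Cfsg.Agent.Nodes.OppDec
open Cfsg.Agent.H2 (CommInv)
open scoped commutatorElement

universe u v

section rgd

variable {I W Y : Type*} [Fintype I] [DecidableEq I] [Group W] [Group Y] {M : CoxeterMatrix I}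
  {cs : CoxeterSystem M W} {A : I → I → ℤ} {h : IsCartan M A} {T : Subgroup Y} {n : I → Y}
  {X : (I → ℤ) → Subgroup Y}

theorem cj_eq_of_comm {g : Y} {B : Subgroup Y} (hg : ∀ b ∈ B, g * b = b * g) : cj g B = B := by
  ext x
  rw [mem_cj]
  constructor
  · intro hx
    have h1 := hg _ hx
    have e : g * (g⁻¹ * x * g) = x * g := by group
    rw [e] at h1
    have h2 := mul_right_cancel h1
    rw [h2]; exact hx
  · intro hx
    have h1 := hg x hx
    have e : g⁻¹ * x * g = x := by rw [mul_assoc, ← h1, inv_mul_cancel_left]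
    rw [e]; exact hx

theorem not_btwn {i j : I} (hij : i ≠ j) (z : I → ℤ) : ¬ Btwn cs h (-sr i) (sr j) z := by
  rintro ⟨hz, m, a, b, hm, ha, hb, he⟩
  have h1 := congrFun he i
  have h2 := congrFun he j
  simp only [Pi.smul_apply, Pi.add_apply, Pi.neg_apply, smul_eq_mul, sr_self, sr_ne hij, sr_ne hij.symm, mul_neg,
    mul_one, mul_zero, add_zero, neg_zero, zero_add] at h1 h2
  rcases hz.pos_or_neg with h3 | h3
  · have h4 : 0 ≤ z i := h3 i
    have h5 : 0 ≤ m * z i := mul_nonneg hm.le h4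
    omega
  · have h4 : z j ≤ 0 := h3 j
    have h5 : m * z j ≤ 0 := mul_nonpos_of_nonneg_of_nonpos hm.le h4
    omega

theorem not_commInv_of_rgd [Finite W] (R : RGD cs h 2 T n X) {i j : I} (hij : i ≠ j) (hA : A i j ≠ 0)
    (hi : ∀ x ∈ X (sr i), x * x = 1) (hj : ∀ x ∈ X (sr j), x * x = 1) : ¬ CommInv Y := by
  intro hC
  have hU := R.isPGroup_Upos
  have hc : ∀ a ∈ X (sr i), ∀ b ∈ X (sr j), a * b = b * a := fun a ha b hb =>
    hC _ hU a (RGD.le_Sup (S := RGD.Pos cs h) ⟨isRoot_sr cs h i, sr_nonneg i⟩ ha) b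
      (RGD.le_Sup (S := RGD.Pos cs h) ⟨isRoot_sr cs h j, sr_nonneg j⟩ hb) (hi a ha) (hj b hb)
  have hne : (-sr i : I → ℤ) ≠ sr j := by
    intro h1
    have h2 := congrFun h1 j
    rw [Pi.neg_apply, sr_ne hij.symm, sr_self] at h2
    omega
  have hne' : (-sr i : I → ℤ) ≠ -sr j := by
    intro h1
    have h2 := congrFun h1 j
    rw [Pi.neg_apply, Pi.neg_apply, sr_ne hij.symm, sr_self] at h2
    omega
  have hc2 : ∀ a ∈ X (-sr i), ∀ b ∈ X (sr j), a * b = b * a := by
    intro a ha b hb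
    have h1 := R.comm (-sr i) (sr j) (isRoot_sr cs h i).neg (isRoot_sr cs h j) hne hne' a ha b hb
    have h2 : btw cs h X (-sr i) (sr j) = ⊥ := by
      rw [eq_bot_iff]
      refine iSup_le ?_
      rintro ⟨z, hz⟩
      exact absurd hz (not_btwn hij z)
    rw [h2, Subgroup.mem_bot] at h1
    exact commutatorElement_eq_one_iff_mul_comm.1 h1
  obtain ⟨⟨u, hu⟩, hu1⟩ : ∃ u : ↥(X (-sr i)), u ≠ 1 := by
    have h1 : X (-sr i) ≠ ⊥ := X_ne_bot R (isRoot_sr cs h i).neg
    have : Nontrivial ↥(X (-sr i)) := (Subgroup.nontrivial_iff_ne_bot _).2 h1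
    exact exists_ne 1
  obtain ⟨a, ha, t, ht, b, hb, e⟩ := R.rk1 i u hu fun h1 => hu1 (Subtype.ext h1)
  have hn : cj (n i) (X (sr j)) = X (sr j) := by
    have e1 : n i = t⁻¹ * (a⁻¹ * (u * b⁻¹)) := by rw [e]; group
    rw [e1, cj_mul, cj_mul, cj_mul, cj_eq_of_comm (g := b⁻¹) (fun x hx => hc _ (inv_mem hb) x hx),
      cj_eq_of_comm (g := u) (fun x hx => hc2 _ hu x hx),
      cj_eq_of_comm (g := a⁻¹) (fun x hx => hc _ (inv_mem ha) x hx), R.tor _ (isRoot_sr cs h j) _ (inv_mem ht)]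
  rw [R.conj i _ (isRoot_sr cs h j)] at hn
  have h1 := X_injective R ((isRoot_sr cs h j).act _) (isRoot_sr cs h j) hn
  have h2 := congrFun h1 i
  rw [rep_simple_apply_self, sr, pairing_single, mul_one, Pi.single_eq_of_ne hij] at h2
  omega

end rgd

section chev

open Cfsg.Agent.Nodes.RGDChev Cfsg.Agent.ChevalleyStructure Cfsg.Agent.ChevalleyStructure.Elts
  Cfsg.Agent.ChevalleyStructure.NPerm Cfsg.Agent.ChevalleyStructure.CoxeterGeomTypes

variable {D : ChevalleyDatum} {l : ℕ} {M : CoxeterMatrix (Fin l)} (hp : IsType D l M) {K : Type u} [Field K]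
  [Finite K] [CharP K 2]

include hp

theorem sq_X (i : Fin l) : ∀ x ∈ (XV D l K (sr i)).subgroupOf (D.group K), x * x = 1 := by
  rintro ⟨g, hg⟩ hx
  have h1 : g ∈ D.rootSubgroup K (D.simple i) := by
    rw [← XV_sr hp]
    exact Subgroup.mem_subgroupOf.1 hx
  obtain ⟨t, rfl⟩ := (mem_rootSubgroup_iff hp.inList _ _).1 h1
  apply Subtype.ext
  show xG hp.inList (D.simple i) t * xG hp.inList (D.simple i) t = 1
  rw [xG_add, CharTwo.add_self_eq_zero, xG_zero]

theorem not_commInv_chev {i j : Fin l} (hij : i ≠ j) (hA : cartanOf D l i j ≠ 0) : ¬ CommInv ↥(D.group K) := by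
  have : Fact (Nat.Prime 2) := ⟨Nat.prime_two⟩
  have : Finite M.Group := finite_W hp M.toCoxeterSystem
  exact not_commInv_of_rgd (rgd (K := K) hp M.toCoxeterSystem 2) hij hA (sq_X hp i) (sq_X hp j)

end chev

section two

variable {K : Type u} [Field K] [Finite K] [CharP K 2]

/-- `G₂(q)`, `q` even -/
theorem not_commInv_gTwo : ¬ CommInv ↥(chevG2.group K) :=
  not_commInv_chev (l := 2) (M := CoxeterMatrix.G₂) (by simp [Cfsg.Agent.Nodes.RGDChev.IsType, Cfsg.Agent.Nodes.RGDChev.typeList]) (i := 0) (j := 1) (by decide)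
    (by decide)

/-- `PSp₄(q)`, `q` even -/
theorem not_commInv_pSp : ¬ CommInv (PSp 2 K) := by
  intro h
  obtain ⟨f⟩ := ChevalleyStructure.B2Sp4.chevB2_equiv_PSp K
  exact not_commInv_chev (D := chevB2) (l := 2) (M := CoxeterMatrix.B 2)
    (by simp [Cfsg.Agent.Nodes.RGDChev.IsType, Cfsg.Agent.Nodes.RGDChev.typeList]) (i := 0) (j := 1) (by decide)
    (by decide) (h.congr f)

end two

end Cfsg.Agent.H265.QTRgd
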