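import Mathlib
import Cfsg.Agent.H2.CommInv
import Cfsg.Agent.H1.RowU

/-!
# `U₅(q)`, `q ≥ 4` even: `L / O₂(L)`, `L ∈ ℒ(G, T)`, has commuting involutions in its Sylow 2-subgroup (helper265)
-/

set_option autoImplicit false
set_option linter.unusedSectionVars false

namespace Cfsg.Agent.H265.QTUnit

open Cfsg
open Cfsg.Agent.ChevalleyStructure.CoxeterGeom Cfsg.Agent.Tits.Roots Cfsg.Agent.Nodes.TypeC
open Cfsg.Agent.Nodes.Comb Cfsg.Agent.Nodes.Reps Cfsg.Agent.Nodes.WittRoot Cfsg.Agent.Nodes.BNOf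
open Cfsg.Agent.TitsThree Cfsg.Agent.TitsThree.Siegel Cfsg.Agent.TitsThree.WittFrame Cfsg.Agent.TitsThree.WittWeyl
open Cfsg.Agent.TitsThree.FrameCN
open Cfsg.Agent.Nodes.WittU Cfsg.Agent.Nodes.WittInst
open Cfsg.Agent.Nodes.WittAll (AmbT nn_mem)
open Cfsg.Agent.H1.WittPerf Cfsg.Agent.H1.QsNode Cfsg.Agent.H1.RgdRow Cfsg.Agent.H1.WittRow
open Cfsg.Agent.H2 (CommInv)

universe u v w

section node

open CoxeterSystem Cfsg.Agent.Tits.Core Cfsg.Agent.Tits.RootComb Cfsg.Agent.Tits.Exchange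
  Cfsg.Agent.Nodes.StabComb Cfsg.Agent.Nodes.Bruhat Cfsg.Agent.Nodes.OppDec Cfsg.Agent.Nodes.LeviDec
  Cfsg.Agent.H1.RankTwo Cfsg.Agent.GenExc Cfsg.Agent.Nodes.Sub Cfsg.Agent.Nodes.SubComb

variable {I W Y : Type*} [Fintype I] [DecidableEq I] [Group W] [Group Y] {M : CoxeterMatrix I}
  {cs : CoxeterSystem M W} {A : I → I → ℤ} {h : IsCartan M A} {T : Subgroup Y} {n : I → Y}
  {X : (I → ℤ) → Subgroup Y}

theorem commInv_node [Finite W] [Finite Y] (R : RGD cs h 2 T n X) (i : I) (hn : n i ∈ X (sr i) ⊔ X (-sr i))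
    (hc : ∀ x ∈ X (sr i), ∀ y ∈ X (sr i), x * x = 1 → y * y = 1 → x * y = y * x) :
    CommInv ↥(X (sr i) ⊔ X (-sr i)) := by
  have h2p : Fact (Nat.Prime 2) := ⟨Nat.prime_two⟩
  have hfin : Finite (leviMatrix (one i) M).Group := finite_WL (cs := cs) (h := h) (one i)
  have hn' : ∀ j, n ((one i) j) ∈ HL cs h X (one i) := fun _ => by rw [HL_one]; exact hn
  have hR := rgd_HL (one i) R hn'
  obtain ⟨S, hS⟩ := exists_sylow hR (Cfsg.Agent.KFacts.RgdFilt.GG_eq_top (G1_HL_top (one i)))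
  have hle : (S : Subgroup ↥(HL cs h X (one i))) ≤ (X (sr i)).subgroupOf (HL cs h X (one i)) := by
    rw [hS]
    refine RGD.Sup_le fun c hc => ?_
    have h1 := iota_mem_LR (cs := cs) (h := h) (one i) hc.1
    have h2 : iota (fun j => sr ((one i) j)) c ∈ RootsJ cs h {i} :=
      ⟨h1.1, fun k hk => h1.2 k fun _ he => hk he.symm⟩
    rcases rootsJ_single i h2 with e | e
    · rw [e]
    · exfalso
      have h3 : iota (fun j => sr ((one i) j)) c i = c () := iota_levi_apply (one i) c ()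
      have h4 : 0 ≤ c () := hc.2 ()
      rw [e, Pi.neg_apply, sr_self] at h3
      omega
  have key : CommInv ↥(HL cs h X (one i)) := by
    refine CommInv.of_sylow S fun x hx y hy hxx hyy => ?_
    apply Subtype.ext
    exact hc _ (Subgroup.mem_subgroupOf.1 (hle hx)) _ (Subgroup.mem_subgroupOf.1 (hle hy)) (congrArg Subtype.val hxx)
      (congrArg Subtype.val hyy)
  rw [HL_one] at key
  exact key

end node

section witt

open Cfsg.Agent.KFacts.Mult.WittW Cfsg.Agent.KFacts.Mult.WittT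

variable {F : Type*} [Field F] {V : Type*} [AddCommGroup V] [Module F V] {H : HForm F V} {n : ℕ}
  {Fr : Frame H (Fin n)} {K : Type*} [Group K] (M : Model Fr K)

/-- the kernel of `φ` contains no nontrivial `Z x (0, c)` -/
theorem c_eq_zero {x : Fin n × Bool} {q : Fr.Adm} (hw : q.w = 0) (h : M.φ ⟨Fr.Z x q, M.hZ _ _⟩ = 1) : q.c = 0 := by
  obtain ⟨a, ha⟩ := M.ker (Fr.b (neg x)) ⟨Fr.Z x q, M.hZ _ _⟩ h
  have h1 := Z_apply_neg Fr x q
  have ha' : Fr.Z x q (Fr.b (neg x)) = a • Fr.b (neg x) := ha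
  rw [ha', hw] at h1
  have h2 := congrArg (fun v => H.h v (Fr.b (neg x))) h1
  simp only [H.add_left, H.smul_left, Fr.hb_self, mul_zero, zero_add, Fr.hb_self_neg, H.zero_left] at h2
  rcases mul_eq_zero.1 h2.symm with h3 | h3
  · rcases mul_eq_zero.1 h3 with h4 | h4
    · exact h4
    · exact absurd h4 (Fr.η_ne x)
  · exact absurd h3 (Fr.η_ne (neg x))

end witt

section U

open Cfsg.Agent.TitsThree.WBridge Cfsg.Agent.TitsThree.KSideU

variable {F : Type w} [Field F] [Fintype F] [CharP F 2] {q : ℕ} (hF : Fintype.card F = q ^ 2) (hq : 3 ≤ q)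

include hF hq in
/-- **row `U₅(q)`** -/
theorem row_model_five (hFT : ∀ (T : Subgroup (PSU 5 F q)), Odd (Nat.card T) → Group.IsSolvable T) :
    ∃ (Q : Fin 2 → Subgroup (PSU 5 F q)), (∀ i, CommInv (Q i)) ∧ RowL (fun i : Fin 2 => ↥(Q i)) (PSU 5 F q) := by
  have h2p : Fact (Nat.Prime 2) := ⟨Nat.prime_two⟩
  obtain ⟨W, -⟩ := exists_wframe hF (m := 2) (N := 5) (Or.inr rfl)
  obtain ⟨p0, hp0, -⟩ := exists_adm hF W
  obtain ⟨t, ht0, ht1, ht⟩ := H1.RowU.exists_fixed hF hq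
  have : Finite (PSU 5 F q) := Quotient.finite _
  have hA := AmbT.of_amb (amb_U hF W) 2
  set M := KInstU.model hF (by norm_num : 3 ≤ 5) W with hM
  obtain ⟨h1, -⟩ := row_model M hA hp0 ht0 ht1 (by rw [HU_σ]; exact ht) hFT
  refine ⟨fun i => Nodes.WittModel.X M (sr i) ⊔ Nodes.WittModel.X M (-sr i), fun i => ?_, h1⟩
  have hWf : Finite (CoxeterMatrix.B 2).Group := finite_W (CoxeterMatrix.B 2).toCoxeterSystem
  refine commInv_node (Nodes.WittAll.rgdC_model M hA hp0 (CoxeterMatrix.B 2).toCoxeterSystem) i (nn_mem_sup' M hA p0 i) ?_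
  intro x hx y hy hxx hyy
  obtain ⟨g, hg, hgr, rfl⟩ := (Nodes.WittModel.mem_X M).1 hx
  obtain ⟨g', hg', hgr', rfl⟩ := (Nodes.WittModel.mem_X M).1 hy
  fin_cases i
  · rw [Fin.zero_eta, rg_sr_zero] at hgr hgr'
    obtain ⟨t, rfl⟩ := hgr
    obtain ⟨t', rfl⟩ := hgr'
    rw [← map_mul, ← map_mul]
    congr 1
    apply Subtype.ext
    show (toFrame W).X _ _ t * (toFrame W).X _ _ t' = (toFrame W).X _ _ t' * (toFrame W).X _ _ t
    rw [← Frame.X_add, ← Frame.X_add, add_comm]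
  · rw [Fin.mk_one, rg_sr_one] at hgr hgr'
    obtain ⟨p, rfl⟩ := hgr
    obtain ⟨p', rfl⟩ := hgr'
    have key : ∀ (r : (toFrame W).Adm) (hr : (toFrame W).Z p1 r ∈ M.I),
        M.φ ⟨(toFrame W).Z p1 r, hr⟩ * M.φ ⟨(toFrame W).Z p1 r, hr⟩ = 1 → r.w = 0 := by
      intro r hr h3
      have hV0 : r.w ∈ W.V0 := (toFrame W).ok_mem r.ok
      rw [← map_mul] at h3
      have e : (⟨(toFrame W).Z p1 r, hr⟩ * ⟨(toFrame W).Z p1 r, hr⟩ : M.I) = ⟨(toFrame W).Z p1 (r * r), M.hZ _ _⟩ :=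
        Subtype.ext (Frame.Z_mul _ _ _ _).symm
      rw [e] at h3
      have hww : (r * r).w = 0 := by
        rw [Frame.Adm.mul_w]
        ext j
        rw [Pi.add_apply, CharTwo.add_self_eq_zero, Pi.zero_apply]
      have h4 := c_eq_zero M hww h3
      rw [Frame.Adm.mul_c, CharTwo.add_self_eq_zero, zero_sub, neg_eq_zero, HU_ε, inv_one, one_mul] at h4
      exact W.aniso r.w hV0 ((sing_iff hF).2 h4)
    have hw := key p _ hxx
    have hw' := key p' _ hyy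
    rw [← map_mul, ← map_mul]
    congr 1
    apply Subtype.ext
    show (toFrame W).Z _ p * (toFrame W).Z _ p' = (toFrame W).Z _ p' * (toFrame W).Z _ p
    rw [← Frame.Z_mul, ← Frame.Z_mul]
    congr 1
    ext1
    · rw [Frame.Adm.mul_w, Frame.Adm.mul_w, add_comm]
    · rw [Frame.Adm.mul_c, Frame.Adm.mul_c, hw, hw', add_comm]

end U

end Cfsg.Agent.H265.QTUnit
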