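import Mathlib
import Cfsg.Agent.H265.QTRgd
import Cfsg.Agent.H265.QTUnit
import Cfsg.Agent.H3.End35
import Cfsg.Agent.BpSpor.HeThree
import Cfsg.Agent.LThreeFour.Exists
import Cfsg.Agent.S0242
import Cfsg.Agent.S0243
import Cfsg.Agent.S0245
import Cfsg.Agent.S0246
import Cfsg.Agent.S0256
import Cfsg.Agent.S1059

/-!
# S1827: `L / O₂(L)` is not `L₃(q)`, `SL₃(q)`, `Sp₄(q)`, `G₂(q)`, `q ≥ 4` even (helper265)
-/

set_option autoImplicit false

namespace Cfsg.Agent.H265.QTLie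

open Subgroup Cfsg Cfsg.Agent.H4.LfTrans Cfsg.Agent.H5.Resid Cfsg.Agent.H3 Cfsg.Agent.H3.Table
open Cfsg.Agent.H2 (CommInv)

universe u v

/-- `Q` is `L₃(q)`, `SL₃(q)`, `Sp₄(q)` or `G₂(q)`, `q ≥ 4` even -/
def BigQ (Q : Type u) [Group Q] : Prop :=
  ∃ (F : Type) (_ : Field F) (_ : Fintype F), CharP F 2 ∧ 4 ≤ Fintype.card F ∧
    (Nonempty (Q ≃* Matrix.ProjectiveSpecialLinearGroup (Fin 3) F) ∨
      Nonempty (Q ≃* Matrix.SpecialLinearGroup (Fin 3) F) ∨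
      Nonempty (Q ≃* Cfsg.PSp 2 F) ∨
      Nonempty (Q ≃* ↥(Cfsg.Lie.chevG2.group F)))

/-! ### commuting involutions -/

section comm

variable {F : Type*} [Field F] [CharP F 2]

theorem not_commInv_sl : ¬ CommInv (Matrix.SpecialLinearGroup (Fin 3) F) :=
  NotComm.sl_not_commInv (a := 0) (b := 1) (c := 2) (by decide) (by decide) (by decide)

open Matrix Cfsg.Agent.TitsThree.KSideA in
theorem not_commInv_psl : ¬ CommInv (Matrix.ProjectiveSpecialLinearGroup (Fin 3) F) := by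
  intro h
  have h2 : (1 : F) + 1 = 0 := CharTwo.add_self_eq_zero 1
  have hsq : ∀ i j : Fin 3, tv i j (1 : F) * tv i j 1 = 1 := fun i j => by
    rw [← tv_add, h2, tv_zero]
  have hinv : ∀ i j : Fin 3, (tv i j (1 : F))⁻¹ = tv i j 1 := fun i j => by
    rw [inv_eq_iff_mul_eq_one, hsq]
  have h3 := tv_comm (a := (0 : Fin 3)) (b := 1) (c := 2) (by decide) (by decide) (by decide) (1 : F) 1
  rw [mul_one] at h3
  have hC : (tv 0 1 (1 : F) * tv 1 2 1) ^ 2 = tv (0 : Fin 3) 2 1 := by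
    rw [commutatorElement_def, hinv, hinv] at h3
    rw [pow_two, ← h3]
    group
  let π : SpecialLinearGroup (Fin 3) F →* ProjectiveSpecialLinearGroup (Fin 3) F := QuotientGroup.mk' _
  have h4 := h.comm (x := π (tv 0 1 1)) (y := π (tv 1 2 1)) (by rw [← map_mul, hsq, map_one])
    (by rw [← map_mul, hsq, map_one]) (k := 2) (by
    rw [← map_mul, ← map_pow, show 2 ^ 2 = 2 * 2 by norm_num, pow_mul, hC, pow_two, hsq, map_one])
  have h5 : π (tv (0 : Fin 3) 2 (1 : F)) = 1 := by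
    rw [← h3, map_commutatorElement]
    exact commutatorElement_eq_one_iff_mul_comm.2 h4
  have h6 : tv (0 : Fin 3) 2 (1 : F) ∈ center (SpecialLinearGroup (Fin 3) F) := (QuotientGroup.eq_one_iff _).1 h5
  obtain ⟨r, -, hr⟩ := Matrix.SpecialLinearGroup.mem_center_iff.1 h6
  have h7 := congrFun (congrFun hr 0) 2
  rw [Nodes.RGDTypeA.tv_val (by decide)] at h7
  simp at h7

end comm

theorem BigQ.not_commInv {Q : Type u} [Group Q] (h : BigQ Q) : ¬ CommInv Q := by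
  obtain ⟨F, _, _, hc, -, h⟩ := h
  rcases h with ⟨⟨e⟩⟩ | ⟨⟨e⟩⟩ | ⟨⟨e⟩⟩ | ⟨⟨e⟩⟩
  · exact fun h1 => not_commInv_psl (h1.congr e.symm)
  · exact fun h1 => not_commInv_sl (h1.congr e.symm)
  · exact fun h1 => QTRgd.not_commInv_pSp (h1.congr e.symm)
  · exact fun h1 => QTRgd.not_commInv_gTwo (h1.congr e.symm)

/-! ### orders -/

section card

variable {F : Type*} [Field F] [Fintype F] {f : ℕ}

theorem odd_pred (hf : 1 ≤ f) : Odd (2 ^ f - 1) := by
  have : Even (2 ^ f) := (Nat.even_pow).2 ⟨even_two, by omega⟩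
  exact Nat.Even.sub_odd (Nat.one_le_two_pow) this odd_one

/-- the product in the order of `GL₃(q)` -/
theorem prod_eq (f : ℕ) : ∏ i : Fin 3, ((2 ^ f) ^ 3 - (2 ^ f) ^ (i : ℕ)) =
    2 ^ (3 * f) * (((2 ^ f) ^ 3 - 1) * ((2 ^ f) ^ 2 - 1) * (2 ^ f - 1)) := by
  have h1 : ∏ i : Fin 3, ((2 ^ f) ^ 3 - (2 ^ f) ^ (i : ℕ)) =
      ((2 ^ f) ^ 3 - 1) * ((2 ^ f) ^ 3 - 2 ^ f) * ((2 ^ f) ^ 3 - (2 ^ f) ^ 2) := by
    simp [Fin.prod_univ_succ, mul_assoc]
  have e1 : (2 ^ f) ^ 3 - 2 ^ f = 2 ^ f * ((2 ^ f) ^ 2 - 1) := by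
    rw [Nat.mul_sub, mul_one]; congr 1; ring
  have e2 : (2 ^ f) ^ 3 - (2 ^ f) ^ 2 = (2 ^ f) ^ 2 * (2 ^ f - 1) := by
    rw [Nat.mul_sub, mul_one]; congr 1
  rw [h1, e1, e2]
  ring

theorem card_sl (hn : Fintype.card F = 2 ^ f) (hf : 1 ≤ f) :
    Nat.card (Matrix.SpecialLinearGroup (Fin 3) F) = 2 ^ (3 * f) * (((2 ^ f) ^ 3 - 1) * ((2 ^ f) ^ 2 - 1)) := by
  have h := S0242.result hn 3 (by norm_num)
  rw [prod_eq] at h
  have h1 : 0 < 2 ^ f - 1 := (odd_pred hf).pos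
  apply Nat.eq_of_mul_eq_mul_left h1
  rw [h]; ring

theorem card_psl (hn : Fintype.card F = 2 ^ f) (hf : 1 ≤ f) :
    Nat.gcd 3 (2 ^ f - 1) * Nat.card (Matrix.ProjectiveSpecialLinearGroup (Fin 3) F) =
      2 ^ (3 * f) * (((2 ^ f) ^ 3 - 1) * ((2 ^ f) ^ 2 - 1)) := by
  have h := S0243.result hn 3 (by norm_num)
  rw [prod_eq] at h
  have h1 : 0 < 2 ^ f - 1 := (odd_pred hf).pos
  apply Nat.eq_of_mul_eq_mul_left h1
  calc (2 ^ f - 1) * (Nat.gcd 3 (2 ^ f - 1) * Nat.card (Matrix.ProjectiveSpecialLinearGroup (Fin 3) F)) =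
      Nat.gcd 3 (2 ^ f - 1) * ((2 ^ f - 1) * Nat.card (Matrix.ProjectiveSpecialLinearGroup (Fin 3) F)) := by ring
    _ = _ := by rw [h]; ring

theorem card_psp (hn : Fintype.card F = 2 ^ f) (hf : 1 ≤ f) :
    Nat.card (PSp 2 F) = 2 ^ (4 * f) * (((2 ^ f) ^ 2 - 1) * ((2 ^ f) ^ 4 - 1)) := by
  have hc : Nat.card (PSp 2 F) * Nat.card ↥(center (Matrix.symplecticGroup (Fin 2) F)) =
      Nat.card (Matrix.symplecticGroup (Fin 2) F) :=
    (Subgroup.card_eq_card_quotient_mul_card_subgroup (center (Matrix.symplecticGroup (Fin 2) F))).symm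
  rw [S0245.result hn 2, S0246.result hn 2 (by norm_num)] at hc
  have hg : Nat.gcd 2 (2 ^ f - 1) = 1 := Nat.coprime_iff_gcd_eq_one.1 (Nat.coprime_two_left.2 (odd_pred hf))
  rw [hg, mul_one] at hc
  rw [hc, Finset.prod_range_succ, Finset.prod_range_one]
  norm_num
  left
  rw [← pow_mul, mul_comm f]

end card

/-- `64` divides the order; the order is 20160 only for `L₃(4)` -/
theorem BigQ.card {Q : Type u} [Group Q] (h : BigQ Q) : 64 ∣ Nat.card Q ∧
    (Nat.card Q = 20160 → ∃ (F : Type) (_ : Field F) (_ : Fintype F), Fintype.card F = 4 ∧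
      Nonempty (Q ≃* Matrix.ProjectiveSpecialLinearGroup (Fin 3) F)) := by
  obtain ⟨F, iF, iFt, hch, h4, h⟩ := h
  obtain ⟨n, -, hn⟩ := FiniteField.card F 2
  set f : ℕ := (n : ℕ) with hf
  have hf2 : 2 ≤ f := by
    by_contra hlt
    have h1 : f = 1 := by have := n.pos; omega
    rw [hn, h1] at h4
    norm_num at h4
  have h64 : ∀ m : ℕ, 3 ≤ m → 64 ∣ 2 ^ (m * f) := fun m hm => by
    rw [show 64 = 2 ^ 6 by norm_num]
    exact Nat.pow_dvd_pow 2 (by nlinarith)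
  have hq4 : 4 ≤ 2 ^ f := by
    calc 4 = 2 ^ 2 := by norm_num
      _ ≤ 2 ^ f := Nat.pow_le_pow_right (by norm_num) hf2
  have hq2 : 15 ≤ (2 ^ f) ^ 2 - 1 := by
    have : 4 ^ 2 ≤ (2 ^ f) ^ 2 := Nat.pow_le_pow_left hq4 2
    omega
  have hq3 : 63 ≤ (2 ^ f) ^ 3 - 1 := by
    have : 4 ^ 3 ≤ (2 ^ f) ^ 3 := Nat.pow_le_pow_left hq4 3
    omega
  have hq4' : 255 ≤ (2 ^ f) ^ 4 - 1 := by
    have : 4 ^ 4 ≤ (2 ^ f) ^ 4 := Nat.pow_le_pow_left hq4 4
    omega
  have hp : ∀ m : ℕ, 4 ^ m ≤ 2 ^ (m * f) := fun m => by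
    rw [show (4 : ℕ) = 2 ^ 2 by norm_num, ← pow_mul]
    exact Nat.pow_le_pow_right (by norm_num) (by nlinarith)
  rcases h with ⟨⟨e⟩⟩ | ⟨⟨e⟩⟩ | ⟨⟨e⟩⟩ | ⟨⟨e⟩⟩
  · have hc := card_psl hn (by omega)
    rw [← Nat.card_congr e.toEquiv] at hc
    refine ⟨?_, fun h => ⟨F, iF, iFt, ?_, ⟨e⟩⟩⟩
    · have h1 : 64 ∣ Nat.gcd 3 (2 ^ f - 1) * Nat.card Q := by
        rw [hc]
        exact (h64 3 le_rfl).mul_right _
      have h2 : Nat.Coprime 64 (Nat.gcd 3 (2 ^ f - 1)) :=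
        Nat.Coprime.coprime_dvd_right (Nat.gcd_dvd_left 3 (2 ^ f - 1)) (by norm_num)
      exact h2.dvd_of_dvd_mul_left h1
    · rw [hn]
      rcases Nat.lt_or_ge f 3 with h3 | h3
      · rw [show f = 2 by omega]; norm_num
      · exfalso
        rw [h] at hc
        have h5 : Nat.gcd 3 (2 ^ f - 1) ≤ 3 := Nat.le_of_dvd (by norm_num) (Nat.gcd_dvd_left 3 (2 ^ f - 1))
        have h6 : 2 ^ 9 ≤ 2 ^ (3 * f) := Nat.pow_le_pow_right (by norm_num) (by omega)
        have h8 : 8 ≤ 2 ^ f := by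
          calc 8 = 2 ^ 3 := by norm_num
            _ ≤ 2 ^ f := Nat.pow_le_pow_right (by norm_num) h3
        have h7 : 8 ^ 3 ≤ (2 ^ f) ^ 3 := Nat.pow_le_pow_left h8 3
        have h9 : 2 ^ 9 * (511 * 15) ≤ 2 ^ (3 * f) * (((2 ^ f) ^ 3 - 1) * ((2 ^ f) ^ 2 - 1)) :=
          Nat.mul_le_mul h6 (Nat.mul_le_mul (by omega) hq2)
        rw [← hc] at h9
        have h10 : Nat.gcd 3 (2 ^ f - 1) * 20160 ≤ 3 * 20160 := Nat.mul_le_mul_right _ h5
        omega
  · have hc := card_sl hn (by omega)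
    rw [← Nat.card_congr e.toEquiv] at hc
    refine ⟨?_, fun h => ?_⟩
    · rw [hc]; exact (h64 3 le_rfl).mul_right _
    · exfalso
      have h9 : 4 ^ 3 * (63 * 15) ≤ 2 ^ (3 * f) * (((2 ^ f) ^ 3 - 1) * ((2 ^ f) ^ 2 - 1)) :=
        Nat.mul_le_mul (hp 3) (Nat.mul_le_mul hq3 hq2)
      rw [← hc, h] at h9
      norm_num at h9
  · have hc := card_psp hn (by omega)
    rw [← Nat.card_congr e.toEquiv] at hc
    refine ⟨?_, fun h => ?_⟩
    · rw [hc]; exact (h64 4 (by norm_num)).mul_right _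
    · exfalso
      have h9 : 4 ^ 4 * (15 * 255) ≤ 2 ^ (4 * f) * (((2 ^ f) ^ 2 - 1) * ((2 ^ f) ^ 4 - 1)) :=
        Nat.mul_le_mul (hp 4) (Nat.mul_le_mul hq2 hq4')
      rw [← hc, h] at h9
      norm_num at h9
  · have hc := S1059.result hn
    rw [← Nat.card_congr e.toEquiv] at hc
    have hq6 : 1 ≤ (2 ^ f) ^ 6 - 1 := by
      have : 4 ^ 6 ≤ (2 ^ f) ^ 6 := Nat.pow_le_pow_left hq4 6
      omega
    have h6 : 4 ^ 6 ≤ (2 ^ f) ^ 6 := Nat.pow_le_pow_left hq4 6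
    refine ⟨?_, fun h => ?_⟩
    · rw [hc, ← pow_mul, mul_comm f, mul_assoc]
      exact (h64 6 (by norm_num)).mul_right _
    · exfalso
      have h9 : 4 ^ 6 * (15 : ℕ) ≤ Nat.card Q := by
        rw [hc]
        calc 4 ^ 6 * 15 = 4 ^ 6 * 15 * 1 := by norm_num
          _ ≤ _ := Nat.mul_le_mul (Nat.mul_le_mul h6 hq2) hq6
      rw [h] at h9
      norm_num at h9

/-- `L₃(4)` is not `A₈` -/
theorem false_of_l34 {Q : Type u} [Group Q] {F : Type} [Field F] [Fintype F] (hF : Fintype.card F = 4)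
    (e : Q ≃* Matrix.ProjectiveSpecialLinearGroup (Fin 3) F) (e' : Q ≃* alternatingGroup (Fin 8)) : False := by
  obtain ⟨A⟩ := LThreeFour.exists_dat hF e
  let t : alternatingGroup (Fin 8) := ⟨Equiv.swap 0 1 * Equiv.swap 2 3, by rw [Equiv.Perm.mem_alternatingGroup]; decide⟩
  let s : alternatingGroup (Fin 8) := ⟨Equiv.swap 4 5 * Equiv.swap 5 6, by rw [Equiv.Perm.mem_alternatingGroup]; decide⟩
  have ht2 : t ^ 2 = 1 := by decide
  have ht1 : t ≠ 1 := by decide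
  have hs3 : s ^ 3 = 1 := by decide
  have hs1 : s ≠ 1 := by decide
  have hst : s * t = t * s := by decide
  have h1 : orderOf (e'.symm t) = 2 := by
    rw [MulEquiv.orderOf_eq]
    exact orderOf_eq_prime ht2 ht1
  have h2 := BpSpor.LFour.two_group A h1
  have h3 : e'.symm s ∈ centralizer ({e'.symm t} : Set Q) := by
    rw [mem_centralizer_singleton_iff, ← map_mul, ← map_mul, hst]
  obtain ⟨k, hk⟩ := h2 ⟨_, h3⟩
  have h4 : (e'.symm s) ^ 2 ^ k = 1 := congrArg Subtype.val hk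
  have h5 : s ^ 2 ^ k = 1 := by
    apply e'.symm.injective
    rw [map_pow, h4, map_one]
  have h6 : orderOf s = 3 := orderOf_eq_prime hs3 hs1
  have h7 := orderOf_dvd_of_pow_eq_one h5
  rw [h6] at h7
  have h8 := Nat.Prime.dvd_of_dvd_pow (by norm_num : Nat.Prime 3) h7
  norm_num at h8

theorem BigQ.not_alt_eight {Q : Type u} [Group Q] (h : BigQ Q) (e' : Q ≃* alternatingGroup (Fin 8)) : False := by
  have hc : Nat.card Q = 20160 := by
    rw [Nat.card_congr e'.toEquiv, nat_card_alternatingGroup, Nat.card_fin, show Nat.factorial 8 = 40320 by rfl]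
  obtain ⟨F, _, _, hF, ⟨e⟩⟩ := h.card.2 hc
  exact false_of_l34 hF e e'

theorem BigQ.congr {Q : Type u} {Q' : Type v} [Group Q] [Group Q'] (e : Q ≃* Q') (h : BigQ Q) : BigQ Q' := by
  obtain ⟨F, iF, iFt, hch, h4, h⟩ := h
  refine ⟨F, iF, iFt, hch, h4, ?_⟩
  rcases h with ⟨⟨f⟩⟩ | ⟨⟨f⟩⟩ | ⟨⟨f⟩⟩ | ⟨⟨f⟩⟩
  · exact Or.inl ⟨e.symm.trans f⟩
  · exact Or.inr (Or.inl ⟨e.symm.trans f⟩)
  · exact Or.inr (Or.inr (Or.inl ⟨e.symm.trans f⟩))
  · exact Or.inr (Or.inr (Or.inr ⟨e.symm.trans f⟩))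

theorem SqOne.commInv {Q : Type u} [Group Q] (h : H1.RowU.SqOne Q) : CommInv Q := by
  intro P hP x hx y hy hxx hyy
  obtain ⟨k, hk⟩ := hP ⟨x * y, mul_mem hx hy⟩
  have h1 : (x * y) ^ 2 ^ k = 1 := congrArg Subtype.val hk
  have h2 := h (x * y) ⟨k, h1⟩
  have h3 : x * y * (x * y) = 1 := by rw [← pow_two, h2]
  have hxi : x⁻¹ = x := inv_eq_of_mul_eq_one_left hxx
  have hyi : y⁻¹ = y := inv_eq_of_mul_eq_one_left hyy
  have h4 := inv_eq_of_mul_eq_one_left h3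
  rw [mul_inv_rev, hxi, hyi] at h4
  exact h4.symm

/-- `SL₂(q)`, `q` even: 2-elements have order at most 2 -/
theorem sqOne_sl {F : Type*} [Field F] [CharP F 2] : H1.RowU.SqOne (Matrix.SpecialLinearGroup (Fin 2) F) := by
  have h0 : (1 : F) + 1 = 0 := CharTwo.add_self_eq_zero 1
  -- Cayley-Hamilton
  have htr : ∀ y : Matrix.SpecialLinearGroup (Fin 2) F, y.1 * y.1 = (y.1 0 0 + y.1 1 1) • y.1 + 1 := by
    intro y
    have hd : y.1 0 0 * y.1 1 1 - y.1 0 1 * y.1 1 0 = 1 := by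
      have := y.2
      rwa [Matrix.det_fin_two] at this
    ext i j
    rw [Matrix.mul_apply, Fin.sum_univ_two, Matrix.add_apply, Matrix.smul_apply, smul_eq_mul]
    fin_cases i <;> fin_cases j
    · simp only [Fin.zero_eta, Fin.isValue, Matrix.one_apply_eq]
      linear_combination (-1 : F) * hd - h0
    · simp only [Fin.zero_eta, Fin.isValue, Fin.mk_one, ne_eq, zero_ne_one, not_false_eq_true, Matrix.one_apply_ne]
      ring
    · simp only [Fin.zero_eta, Fin.isValue, Fin.mk_one, ne_eq, one_ne_zero, not_false_eq_true, Matrix.one_apply_ne]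
      ring
    · simp only [Fin.mk_one, Fin.isValue, Matrix.one_apply_eq]
      linear_combination (-1 : F) * hd - h0
  have key : ∀ x : Matrix.SpecialLinearGroup (Fin 2) F, (x ^ 2) ^ 2 = 1 → x ^ 2 = 1 := by
    intro x hx
    set t := x.1 0 0 + x.1 1 1 with ht
    have h1 : (x ^ 2).1 = t • x.1 + 1 := by
      rw [pow_two, Matrix.SpecialLinearGroup.coe_mul]
      exact htr x
    have h2 : ((x ^ 2) ^ 2).1 = (t * t) • (x ^ 2).1 + 1 := by
      rw [pow_two (x ^ 2), Matrix.SpecialLinearGroup.coe_mul, h1, add_mul, mul_add, mul_add, mul_one, one_mul, one_mul,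
        smul_mul_smul_comm, htr x, ← ht]
      have h3 : t • x.1 + t • x.1 = 0 := by rw [← add_smul, CharTwo.add_self_eq_zero, zero_smul]
      rw [← add_assoc, add_assoc _ (t • x.1) (t • x.1), h3, add_zero]
    rw [hx, Matrix.SpecialLinearGroup.coe_one] at h2
    have h3 : (t * t) • (x ^ 2).1 = 0 := (right_eq_add.1 h2)
    rcases smul_eq_zero.1 h3 with h4 | h4
    · have h5 : t = 0 := mul_self_eq_zero.1 h4
      apply Subtype.ext
      rw [h1, h5, zero_smul, zero_add, Matrix.SpecialLinearGroup.coe_one]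
    · exfalso
      have h5 := (x ^ 2).2
      rw [h4, Matrix.det_zero] at h5
      exact zero_ne_one h5
  rintro x ⟨k, hk⟩
  induction k generalizing x with
  | zero =>
    rw [pow_zero, pow_one] at hk
    rw [hk, one_pow]
  | succ k ih =>
    apply key
    apply ih
    rw [← pow_mul, ← hk]
    congr 1
    ring

/-! ### the rows -/

section rows

variable {G : Type u} [Group G] [Finite G]

omit [Finite G] in
theorem commInv_of_sl {ι : Type} {F : ι → Type} [∀ i, Field (F i)] [∀ i, CharP (F i) 2]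
    (h : H1.RgdRow.RowL (fun i => Matrix.SpecialLinearGroup (Fin 2) (F i)) G) (T : Sylow 2 G) {L : Subgroup G}
    (hL : L ∈ calL (T : Subgroup G)) : CommInv (L ⧸ pCore 2 L) := by
  obtain ⟨-, i, ⟨e⟩⟩ := h T L hL
  exact (SqOne.commInv sqOne_sl).congr e

/-- **Lie rank 2 over a field with more than two elements** -/
theorem row_lie [IsSimpleGroup G] (hFT : H5.Top.FT.{0}) (h : IsLieRankTwoCharTwoLargeField G) (T : Sylow 2 G)
    {L : Subgroup G} (hL : L ∈ calL (T : Subgroup G)) : CommInv (L ⧸ pCore 2 L) := by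
  rcases h with ⟨F, _, _, hF, h4, h⟩ | ⟨F, _, _, n, hn, hF, h⟩ | ⟨F, _, _, hF, h⟩ | ⟨K, _, _, n, hn, hK, h⟩ | h
  · rcases h with h | h | h <;> obtain ⟨e⟩ := h
    · exact commInv_of_sl (H1.RowPSL.row_psl_three e) T hL
    · exact commInv_of_sl (H1.RowChev.row_pSp e) T hL
    · exact commInv_of_sl (H1.RowExc.row_gTwo e) T hL
  · obtain ⟨e⟩ := h
    have hchar : CharP F 2 := Asm35.charP_of_card_pow (m := n * 2) (by rw [hF, pow_mul])
    have hq : 3 ≤ 2 ^ n := by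
      calc 3 ≤ 2 ^ 2 := by norm_num
        _ ≤ 2 ^ n := Nat.pow_le_pow_right (by norm_num) hn
    have : Finite (Cfsg.PSU 4 F (2 ^ n)) := Finite.of_equiv _ e.toEquiv
    obtain ⟨Q, hQ, hrow, -⟩ := H1.RowU.row_model_four hF hq (fun T hT => hFT T hT)
    obtain ⟨-, i, ⟨f⟩⟩ := H1.RgdRow.RowL.congr e hrow T L hL
    exact (SqOne.commInv (hQ i)).congr f
  · obtain ⟨e⟩ := h
    have hchar : CharP F 2 := Asm35.charP_of_card_pow (m := 4) (by rw [hF]; norm_num)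
    have : Finite (Cfsg.PSU 5 F 4) := Finite.of_equiv _ e.toEquiv
    obtain ⟨Q, hQ, hrow⟩ := QTUnit.row_model_five (q := 4) (by rw [hF]; norm_num) (by norm_num) (fun T hT => hFT T hT)
    obtain ⟨-, i, ⟨f⟩⟩ := H1.RgdRow.RowL.congr e hrow T L hL
    exact (hQ i).congr f
  · obtain ⟨e⟩ := h
    have hchar : CharP K 2 := Asm35.charP_of_card_pow (m := n * 3) (by rw [hK, pow_mul])
    have hq : IsPrimePow (2 ^ n) := (Nat.prime_two.isPrimePow).pow (by omega)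
    obtain ⟨F, _, _, _, -, hrow⟩ := H1.RowExc.row_twD4 hq hK e
    exact commInv_of_sl hrow T hL
  · exact H2.TwF.commInv h hL

omit [Finite G] in
theorem BigQ.not_dvd {L : Subgroup G} (h : BigQ (L ⧸ pCore 2 L)) {n : ℕ} (hn : Nat.card (L ⧸ pCore 2 L) = n)
    (h64 : ¬ 64 ∣ n) : False := h64 (hn ▸ h.card.1)

/-- `2^9` divides the order -/
theorem BigQ.two_pow {L : Subgroup G} (h : BigQ (L ⧸ pCore 2 L)) {T : Subgroup G} (hL : L ∈ calLf T) :
    512 ∣ Nat.card G := by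
  have h2 : Fact (Nat.Prime 2) := ⟨Nat.prime_two⟩
  obtain ⟨-, hA⟩ := H4.Small.acts_inner hL
  have h8 := hA.eight_le
  have h3 : H4.Lf.UU L ≤ (pCore 2 ↥L).map L.subtype := fun x hx => (H4.Lf.mem_omega.1 hx).1
  have h4 : 8 ≤ Nat.card (pCore 2 ↥L) := by
    have h5 := Nat.card_le_card_of_injective _ (Subgroup.inclusion_injective h3)
    have h6 : Nat.card ↥((pCore 2 ↥L).map L.subtype) = Nat.card (pCore 2 ↥L) :=
      Nat.card_congr ((pCore 2 ↥L).equivMapOfInjective _ L.subtype_injective).toEquiv.symm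
    omega
  obtain ⟨n, hn⟩ := IsPGroup.iff_card.1 (Lib.Cores.pCore_isPGroup (G := L) 2)
  have hn3 : 3 ≤ n := by
    by_contra h5
    have : 2 ^ n ≤ 2 ^ 2 := Nat.pow_le_pow_right (by norm_num) (by omega)
    omega
  have h5 : 8 ∣ Nat.card (pCore 2 ↥L) := by
    rw [hn]
    exact (show (8 : ℕ) = 2 ^ 3 by norm_num) ▸ Nat.pow_dvd_pow 2 hn3
  have h7 := Subgroup.card_eq_card_quotient_mul_card_subgroup (pCore 2 ↥L)
  have h8 : 512 ∣ Nat.card L := by
    rw [h7, show 512 = 64 * 8 by norm_num]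
    exact Nat.mul_dvd_mul h.card.1 h5
  exact h8.trans (Subgroup.card_subgroup_dvd_card L)

theorem card_alt_eight : Nat.card (alternatingGroup (Fin 8)) = 20160 := by
  rw [nat_card_alternatingGroup, Nat.card_fin, show Nat.factorial 8 = 40320 by rfl]

theorem row_m24 (h : Spor.IsoM24 G) (T : Sylow 2 G) {L : Subgroup G} (hL : L ∈ calL (T : Subgroup G))
    (hb : BigQ (L ⧸ pCore 2 L)) : False := by
  obtain ⟨e⟩ := h
  have h1 : L.map e.toMonoidHom ∈ calL ((mapSylow e T : Sylow 2 M24) : Subgroup M24) := by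
    rw [coe_mapSylow]
    exact map_mem_calL e hL
  obtain ⟨-, h2⟩ := M24Row.row24 _ h1
  have e1 : (L ⧸ pCore 2 L) ≃* (↥(L.map e.toMonoidHom) ⧸ pCore 2 ↥(L.map e.toMonoidHom)) := quotEquiv (sm e L)
  rcases h2 with ⟨⟨f⟩⟩ | ⟨⟨f⟩⟩ | ⟨-, -, h3⟩
  · exact hb.not_alt_eight (e1.trans f)
  · exact hb.not_dvd (Nat.card_congr (e1.trans f).toEquiv) (by rw [H5.ResidEnd.card_l3]; norm_num)
  · rw [← Nat.card_congr e1.toEquiv] at h3
    rcases h3 with h3 | h3
    · exact hb.not_dvd h3 (by norm_num)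
    · exact hb.not_dvd h3 (by norm_num)

/-- **S1827** -/
theorem main [IsSimpleGroup G] (hG : ¬ IsMulCommutative G) (hQ : IsQTKE G) (hFT0 : H5.Top.FT.{0})
    (hFT : H5.Top.FT.{u}) (hl : IsOnQTKEList G) (T : Sylow 2 G) (L : Subgroup G)
    (hL : L ∈ calLfMax (T : Subgroup G)) : ¬ BigQ (L ⧸ pCore 2 L) := by
  intro hb
  have hE : IsOfEvenCharacteristic G := hQ.2.2
  have hLf : L ∈ calLf (T : Subgroup G) := ⟨hL.1.1, hL.2⟩
  rcases table hFT hE hl (H4.HypAll.hyp hFT0 hE) with h | h | h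
  · rcases h T L hLf with ⟨⟨e⟩⟩ | ⟨⟨e⟩⟩ | ⟨⟨e⟩⟩
    · exact hb.not_dvd (Nat.card_congr e.toEquiv) (by rw [H5.ResidEnd.card_alt_six]; norm_num)
    · exact hb.not_dvd (Nat.card_congr e.toEquiv) (by rw [H5.ResidEnd.card_alt_five]; norm_num)
    · exact hb.not_dvd (Nat.card_congr e.toEquiv) (by rw [H5.ResidEnd.card_l3]; norm_num)
  · exact hb.not_commInv (row_lie hFT0 h T hLf.1)
  · rcases h with ⟨F, _, _, hF, h⟩ | ⟨F, _, _, hF, h⟩ | h | h | h | h | h | h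
    · obtain ⟨e⟩ := h
      have hchar : CharP F 2 := Asm36.charP_of_card hF
      obtain ⟨_, _, ⟨f⟩⟩ := H1.RowPSLFive.row_psl_four hF e T L hLf.1
      exact hb.not_dvd (Nat.card_congr f.toEquiv) (by rw [(Asm36.card_psl hF).1]; norm_num)
    · obtain ⟨e⟩ := h
      have hchar : CharP F 2 := Asm36.charP_of_card hF
      obtain ⟨_, i, ⟨f⟩⟩ := H1.RowPSLFive.row_psl_five hF e T L hLf.1
      fin_cases i
      · have h2 : Nat.card (L ⧸ pCore 2 L) = 168 := (Nat.card_congr f.toEquiv).trans (Asm36.card_psl hF).1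
        exact hb.not_dvd h2 (by norm_num)
      · obtain ⟨e8⟩ := S0256.result hF
        exact hb.not_alt_eight (f.trans e8)
    · obtain ⟨e⟩ := h
      have hc : Nat.card G = 181440 := by
        rw [Nat.card_congr e.toEquiv, nat_card_alternatingGroup, Nat.card_fin, show Nat.factorial 9 = 362880 by rfl]
      have h1 := hb.two_pow hLf
      rw [hc] at h1
      revert h1
      norm_num
    · obtain ⟨e⟩ := h
      have h1 := hb.two_pow hLf
      rw [Nat.card_congr e.toEquiv, SporadicA.MathieuRecog.card_M22] at h1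
      revert h1
      norm_num
    · obtain ⟨e⟩ := h
      have h1 := hb.two_pow hLf
      rw [Nat.card_congr e.toEquiv, SporadicA.MathieuRecog.card_M23] at h1
      revert h1
      norm_num
    · exact row_m24 h T hLf.1 hb
    · rcases (H6.HeRow.he_mem h T hLf.1).2 with ⟨⟨e⟩⟩ | ⟨-, h2, ⟨e⟩⟩
      · exact hb.not_dvd (Nat.card_congr e.toEquiv) (by rw [H5.ResidEnd.card_l3]; norm_num)
      · have h3 := Subgroup.card_eq_card_quotient_mul_card_subgroup (center (L ⧸ pCore 2 L))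
        rw [Nat.card_congr e.toEquiv, h2, H5.ResidEnd.card_alt_six] at h3
        exact hb.not_dvd h3 (by norm_num)
    · obtain ⟨F, iF, iFt, hch, h4, h5⟩ := hb
      exact H7.J4Row.no_lie hG hQ h T hL ⟨F, iF, iFt, hch, h4, Or.inr h5⟩

end rows

end Cfsg.Agent.H265.QTLie
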