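import Cfsg.Agent.SuzThree.SylowThree
import Cfsg.Agent.SuzThree.GoodX

/-!
# `Suz`: every element of order 3 commutes with an involution (helper265)

The normaliser `NA` of the elementary abelian group `A0` of order `3 ^ 5` contains a Sylow 3-subgroup and acts on the
eleven special subgroups as `M₁₁`. The elements of order 3 of `A0` commute with the conjugates of `a b a`; the others are
conjugate to `r a`, `a ∈ A0`, with `r` fixed, and, up to conjugation by `A0`, there are nine of them: six have order 9,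
the others commute with an involution.
-/

set_option autoImplicit false
set_option maxRecDepth 100000
set_option linter.unusedVariables false

namespace Cfsg.Agent.H265.SuzEven

open Subgroup Cfsg.Spor Cfsg.Agent.Lib.PermNet Cfsg.Agent.Lib.PermNetOrbit Cfsg.Agent.SporadicRecognition.SuzPhi
  Cfsg.Agent.SporadicRecognition.SuzBound Cfsg.Agent.SporadicRecognition.SuzOrder
  Cfsg.Agent.SuzThree.Nets Cfsg.Agent.SuzThree.Basic Cfsg.Agent.SuzThree.Elts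
  Cfsg.Agent.SuzThree.Elementary Cfsg.Agent.SuzThree.NormElts Cfsg.Agent.SuzThree.NormAct
  Cfsg.Agent.SuzThree.FourTrans

theorem finSuz : Finite Suz := Nat.finite_of_card_ne_zero (by rw [card_Suz]; norm_num)

theorem isPGroup_zpow {G : Type*} [Group G] {s : G} (h : s * s * s = 1) : IsPGroup 3 (zpowers s) := by
  rintro ⟨_, k, rfl⟩
  refine ⟨1, Subtype.ext ?_⟩
  change (s ^ k) ^ 3 ^ 1 = 1
  rw [pow_one, ← zpow_natCast, ← zpow_mul, mul_comm, zpow_mul]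
  have h1 : s ^ ((3 : ℕ) : ℤ) = 1 := by rw [zpow_natCast, pow_succ, pow_two]; exact h
  rw [h1, one_zpow]

/-- commutes with an involution -/
def Ev (s : Suz) : Prop := ∃ u : Suz, u * u = 1 ∧ u ≠ 1 ∧ u * s = s * u

theorem Ev.of_conj {s : Suz} (g : Suz) (h : Ev (g * s * g⁻¹)) : Ev s := by
  obtain ⟨u, h1, h2, h3⟩ := h
  refine ⟨g⁻¹ * u * g, ?_, ?_, ?_⟩
  · calc g⁻¹ * u * g * (g⁻¹ * u * g) = g⁻¹ * (u * u) * g := by group
      _ = 1 := by rw [h1]; group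
  · intro h
    apply h2
    calc u = g * (g⁻¹ * u * g) * g⁻¹ := by group
      _ = 1 := by rw [h]; group
  · calc g⁻¹ * u * g * s = g⁻¹ * (u * (g * s * g⁻¹)) * g := by group
      _ = s * (g⁻¹ * u * g) := by rw [h3]; group

/-! ### The elements of `A0` -/

/-- a word -/
def aba : List Suz.Gen := [.a, .b, .a]

theorem aba_sq : el aba * el aba = 1 := eq_of_reps ((Rep.el _).mul (Rep.el _)) Rep.one (by decide +kernel)

theorem ne_one_of_mv {w : List Suz.Gen} {p q : ℕ} (h : mv (wd w) p q = true) (hpq : p ≠ q) : el w ≠ 1 := by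
  intro h1
  have h2 := (Rep.el w).pt h
  rw [h1, map_one] at h2
  exact hpq h2

theorem aba_x0 : el aba * x .i0 = x .i0 * el aba :=
  eq_of_reps ((Rep.el _).mul (rep_x _)) ((rep_x _).mul (Rep.el _)) (by decide +kernel)

theorem aba_x1 : el aba * x .i1 = x .i1 * el aba :=
  eq_of_reps ((Rep.el _).mul (rep_x _)) ((rep_x _).mul (Rep.el _)) (by decide +kernel)

/-- `f`, `g`, `i`, `j` with `v = i vec f + j vec g` -/
def code (v : V) : Ix × Ix × ZMod 3 × ZMod 3 :=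
  ([(.i0, .i1, 0, 0), (.i0, .i4, 0, 1), (.i0, .i4, 0, 2), (.i0, .i3, 0, 1), (.i3, .i4, 1, 1), (.i3, .i4, 1, 2),
    (.i0, .i3, 0, 2), (.i3, .i4, 2, 1), (.i3, .i4, 2, 2), (.i0, .i2, 0, 1), (.i2, .i4, 1, 1), (.i2, .i4, 1, 2),
    (.i2, .i3, 1, 1), (.i1, .i7, 1, 1), (.i8, .i9, 1, 1), (.i2, .i3, 1, 2), (.i0, .i6, 2, 2), (.i5, .i10, 2, 2),
    (.i0, .i2, 0, 2), (.i2, .i4, 2, 1), (.i2, .i4, 2, 2), (.i2, .i3, 2, 1), (.i5, .i10, 1, 1), (.i0, .i6, 1, 1),
    (.i2, .i3, 2, 2), (.i8, .i9, 2, 2), (.i1, .i7, 2, 2), (.i0, .i1, 0, 1), (.i1, .i4, 1, 1), (.i1, .i4, 1, 2),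
    (.i1, .i3, 1, 1), (.i6, .i8, 1, 2), (.i5, .i9, 1, 2), (.i1, .i3, 1, 2), (.i0, .i10, 1, 1), (.i2, .i7, 1, 2),
    (.i1, .i2, 1, 1), (.i9, .i10, 2, 2), (.i0, .i8, 2, 2), (.i0, .i5, 1, 2), (.i1, .i7, 2, 1), (.i6, .i10, 2, 1),
    (.i6, .i9, 1, 1), (.i5, .i8, 1, 1), (.i2, .i7, 2, 2), (.i1, .i2, 1, 2), (.i5, .i6, 2, 2), (.i3, .i7, 1, 2),
    (.i8, .i10, 1, 2), (.i0, .i9, 2, 1), (.i3, .i7, 2, 2), (.i4, .i7, 1, 2), (.i4, .i7, 2, 2), (.i0, .i7, 0, 2),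
    (.i0, .i1, 0, 2), (.i1, .i4, 2, 1), (.i1, .i4, 2, 2), (.i1, .i3, 2, 1), (.i2, .i7, 2, 1), (.i0, .i10, 2, 2),
    (.i1, .i3, 2, 2), (.i5, .i9, 2, 1), (.i6, .i8, 2, 1), (.i1, .i2, 2, 1), (.i3, .i7, 2, 1), (.i5, .i6, 1, 1),
    (.i4, .i7, 2, 1), (.i0, .i7, 0, 1), (.i4, .i7, 1, 1), (.i8, .i10, 2, 1), (.i3, .i7, 1, 1), (.i0, .i9, 1, 2),
    (.i1, .i2, 2, 2), (.i0, .i8, 1, 1), (.i9, .i10, 1, 1), (.i6, .i9, 2, 2), (.i2, .i7, 1, 1), (.i5, .i8, 2, 2),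
    (.i0, .i5, 2, 1), (.i6, .i10, 1, 2), (.i1, .i7, 1, 2), (.i0, .i1, 1, 0), (.i0, .i4, 1, 1), (.i0, .i4, 1, 2),
    (.i0, .i3, 1, 1), (.i5, .i8, 2, 1), (.i1, .i10, 1, 2), (.i0, .i3, 1, 2), (.i2, .i6, 2, 2), (.i7, .i9, 1, 1),
    (.i0, .i2, 1, 1), (.i3, .i6, 1, 2), (.i1, .i8, 2, 2), (.i9, .i10, 2, 1), (.i3, .i6, 2, 2), (.i5, .i7, 1, 2),
    (.i4, .i6, 2, 2), (.i0, .i6, 0, 2), (.i4, .i6, 1, 2), (.i0, .i2, 1, 2), (.i7, .i10, 2, 2), (.i5, .i9, 2, 2),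
    (.i7, .i8, 1, 2), (.i1, .i9, 2, 1), (.i0, .i6, 2, 1), (.i1, .i5, 1, 1), (.i2, .i6, 1, 2), (.i8, .i10, 1, 1),
    (.i0, .i1, 1, 1), (.i5, .i7, 1, 1), (.i2, .i8, 2, 2), (.i6, .i7, 2, 2), (.i2, .i9, 1, 1), (.i1, .i10, 2, 2),
    (.i8, .i9, 1, 2), (.i0, .i10, 2, 1), (.i5, .i6, 2, 1), (.i4, .i8, 1, 2), (.i4, .i8, 2, 2), (.i0, .i8, 0, 2),
    (.i0, .i5, 2, 2), (.i2, .i9, 2, 1), (.i3, .i8, 1, 2), (.i7, .i10, 1, 2), (.i1, .i6, 1, 2), (.i3, .i8, 2, 2),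
    (.i6, .i10, 1, 1), (.i3, .i9, 2, 1), (.i2, .i8, 1, 2), (.i4, .i9, 2, 1), (.i0, .i9, 0, 1), (.i4, .i9, 1, 1),
    (.i1, .i5, 2, 1), (.i3, .i9, 1, 1), (.i0, .i7, 1, 2), (.i0, .i1, 1, 2), (.i6, .i9, 1, 2), (.i3, .i10, 2, 2),
    (.i4, .i10, 1, 2), (.i4, .i10, 2, 2), (.i0, .i10, 0, 2), (.i2, .i5, 1, 1), (.i7, .i8, 2, 2), (.i3, .i10, 1, 2),
    (.i7, .i9, 2, 1), (.i5, .i10, 2, 1), (.i1, .i8, 1, 2), (.i6, .i8, 1, 1), (.i0, .i7, 1, 1), (.i2, .i10, 1, 2),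
    (.i2, .i5, 2, 1), (.i1, .i6, 2, 2), (.i0, .i9, 2, 2), (.i3, .i5, 1, 1), (.i0, .i8, 2, 1), (.i6, .i7, 2, 1),
    (.i3, .i5, 2, 1), (.i1, .i9, 1, 1), (.i2, .i10, 2, 2), (.i0, .i5, 0, 1), (.i4, .i5, 1, 1), (.i4, .i5, 2, 1),
    (.i0, .i1, 2, 0), (.i0, .i4, 2, 1), (.i0, .i4, 2, 2), (.i0, .i3, 2, 1), (.i7, .i9, 2, 2), (.i2, .i6, 1, 1),
    (.i0, .i3, 2, 2), (.i1, .i10, 2, 1), (.i5, .i8, 1, 2), (.i0, .i2, 2, 1), (.i5, .i9, 1, 1), (.i7, .i10, 1, 1),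
    (.i1, .i5, 2, 2), (.i8, .i10, 2, 2), (.i2, .i6, 2, 1), (.i7, .i8, 2, 1), (.i0, .i6, 1, 2), (.i1, .i9, 1, 2),
    (.i0, .i2, 2, 2), (.i1, .i8, 1, 1), (.i3, .i6, 2, 1), (.i4, .i6, 1, 1), (.i4, .i6, 2, 1), (.i0, .i6, 0, 1),
    (.i9, .i10, 1, 2), (.i5, .i7, 2, 1), (.i3, .i6, 1, 1), (.i0, .i1, 2, 1), (.i3, .i10, 1, 1), (.i6, .i9, 2, 1),
    (.i2, .i5, 2, 2), (.i3, .i10, 2, 1), (.i7, .i8, 1, 1), (.i4, .i10, 2, 1), (.i0, .i10, 0, 1), (.i4, .i10, 1, 1),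
    (.i3, .i5, 2, 2), (.i6, .i7, 1, 2), (.i0, .i8, 1, 2), (.i0, .i5, 0, 2), (.i4, .i5, 1, 2), (.i4, .i5, 2, 2),
    (.i3, .i5, 1, 2), (.i2, .i10, 1, 1), (.i1, .i9, 2, 2), (.i7, .i9, 1, 2), (.i1, .i8, 2, 1), (.i5, .i10, 1, 2),
    (.i2, .i5, 1, 2), (.i0, .i9, 1, 1), (.i1, .i6, 1, 1), (.i6, .i8, 2, 2), (.i2, .i10, 2, 1), (.i0, .i7, 2, 2),
    (.i0, .i1, 2, 2), (.i2, .i8, 1, 1), (.i5, .i7, 2, 2), (.i8, .i9, 2, 1), (.i5, .i6, 1, 2), (.i0, .i10, 1, 2),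
    (.i6, .i7, 1, 1), (.i1, .i10, 1, 1), (.i2, .i9, 2, 2), (.i6, .i10, 2, 2), (.i2, .i8, 2, 1), (.i3, .i9, 1, 2),
    (.i1, .i5, 1, 2), (.i0, .i7, 2, 1), (.i3, .i9, 2, 2), (.i4, .i9, 1, 2), (.i4, .i9, 2, 2), (.i0, .i9, 0, 2),
    (.i4, .i8, 2, 1), (.i0, .i8, 0, 1), (.i4, .i8, 1, 1), (.i7, .i10, 2, 1), (.i3, .i8, 1, 1), (.i1, .i6, 2, 1),
    (.i0, .i5, 1, 1), (.i3, .i8, 2, 1), (.i2, .i9, 1, 2)] : List (Ix × Ix × ZMod 3 × ZMod 3)).getD
    (v.1.val * 81 + v.2.1.val * 27 + v.2.2.1.val * 9 + v.2.2.2.1.val * 3 + v.2.2.2.2.val) (.i0, .i1, 0, 0)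

theorem code_spec : ∀ v : V, (code v).1 ≠ (code v).2.1 ∧
    v = (code v).2.2.1.val • vec (code v).1 + (code v).2.2.2.val • vec (code v).2.1 := by decide +kernel

theorem E_nsmul (n : ℕ) (v : V) : E (n • v) = E v ^ n := by
  induction n with
  | zero => rw [zero_smul, pow_zero, E_zero]
  | succ n ih => rw [succ_nsmul, E_add, ih, pow_succ]

/-- two special subgroups can be moved to the first two -/
theorem exists_two {f g : Ix} (h : f ≠ g) : ∃ n : NA, n • Ix.i0 = f ∧ n • Ix.i1 = g := by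
  obtain ⟨c, d, hcd⟩ : ∃ c d : Ix, [f, g, c, d].Nodup := by
    revert f g
    decide +kernel
  obtain ⟨n, h0, h1, -⟩ := exists_npr _ _ _ _ hcd
  exact ⟨n, h0, h1⟩

theorem comm_of_sp {n : Suz} {f g : Ix} (h : Sp n f g) {u : Suz} (hu : u * x f = x f * u) :
    (n * u * n⁻¹) * x g = x g * (n * u * n⁻¹) := by
  have hc : Commute u (x f) := hu
  rcases h with h | h
  · rw [← h]
    calc n * u * n⁻¹ * (n * x f * n⁻¹) = n * (u * x f) * n⁻¹ := by group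
      _ = n * x f * n⁻¹ * (n * u * n⁻¹) := by rw [hu]; group
  · have h1 : x g = n * (x f)⁻¹ * n⁻¹ := by
      calc x g = ((x g)⁻¹)⁻¹ := (inv_inv _).symm
        _ = n * (x f)⁻¹ * n⁻¹ := by rw [← h]; group
    have h2 : u * (x f)⁻¹ = (x f)⁻¹ * u := hc.inv_right.eq
    rw [h1]
    calc n * u * n⁻¹ * (n * (x f)⁻¹ * n⁻¹) = n * (u * (x f)⁻¹) * n⁻¹ := by group
      _ = n * (x f)⁻¹ * n⁻¹ * (n * u * n⁻¹) := by rw [h2]; group

/-- **the elements of `A0`** -/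
theorem ev_A0 {a : Suz} (ha : a ∈ A0) : Ev a := by
  obtain ⟨v, rfl⟩ := mem_A0.1 ha
  obtain ⟨h1, h2⟩ := code_spec v
  obtain ⟨n, h3, h4⟩ := exists_two h1
  have h5 := comm_of_sp (smul_spec n .i0) aba_x0
  have h6 := comm_of_sp (smul_spec n .i1) aba_x1
  rw [h3] at h5
  rw [h4] at h6
  refine ⟨(n : Suz) * el aba * (n : Suz)⁻¹, ?_, ?_, ?_⟩
  · calc (n : Suz) * el aba * (n : Suz)⁻¹ * ((n : Suz) * el aba * (n : Suz)⁻¹) = n * (el aba * el aba) * (n : Suz)⁻¹ := by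
          group
      _ = 1 := by rw [aba_sq]; group
  · intro h
    apply ne_one_of_mv (w := aba) (p := 1) (q := 3) (by decide +kernel) (by norm_num)
    calc el aba = (n : Suz)⁻¹ * (n * el aba * (n : Suz)⁻¹) * n := by group
      _ = 1 := by rw [h]; group
  · have h7 : E v = x (code v).1 ^ (code v).2.2.1.val * x (code v).2.1 ^ (code v).2.2.2.val := by
      conv_lhs => rw [h2]
      rw [E_add, E_nsmul, E_nsmul, ← x_eq, ← x_eq]
    rw [h7]
    exact ((Commute.pow_right (show Commute _ _ from h5) _).mul_right (Commute.pow_right (show Commute _ _ from h6) _)).eq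

/-! ### The coset -/

/-- a word of length 7 in the generators of the normaliser -/
def rj : List Jx := [.j4, .j2, .j1, .j4, .j2, .j1, .j2]

/-- the word -/
def rw' : List Suz.Gen := rj.flatMap nw

theorem coe_npr (w : List Jx) : ((npr w : NA) : Suz) = el (w.flatMap nw) := by
  induction w with
  | nil => rfl
  | cons j w ih =>
    rw [npr, Subgroup.coe_mul, ih, List.flatMap_cons, el_append]

theorem ri_x0 : el rw' * E (1, 0, 0, 0, 0) = x .i0 * el rw' :=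
  eq_of_reps ((Rep.el _).mul (rep_E _)) ((rep_x _).mul (Rep.el _)) (by decide +kernel)

theorem ri_x1 : el rw' * E (0, 1, 0, 0, 0) = x .i1 * el rw' :=
  eq_of_reps ((Rep.el _).mul (rep_E _)) ((rep_x _).mul (Rep.el _)) (by decide +kernel)

theorem ri_x2 : el rw' * E (1, 2, 2, 2, 0) = x .i2 * el rw' :=
  eq_of_reps ((Rep.el _).mul (rep_E _)) ((rep_x _).mul (Rep.el _)) (by decide +kernel)

theorem ri_x3 : el rw' * E (0, 0, 1, 0, 0) = x .i3 * el rw' :=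
  eq_of_reps ((Rep.el _).mul (rep_E _)) ((rep_x _).mul (Rep.el _)) (by decide +kernel)

theorem ri_x4 : el rw' * E (1, 1, 2, 1, 1) = x .i4 * el rw' :=
  eq_of_reps ((Rep.el _).mul (rep_E _)) ((rep_x _).mul (Rep.el _)) (by decide +kernel)

/-- the action of `r⁻¹` -/
def Lf (v : V) : V := v.1.val • (1, 0, 0, 0, 0) + (v.2.1.val • (0, 1, 0, 0, 0) + (v.2.2.1.val • (1, 2, 2, 2, 0) +
  (v.2.2.2.1.val • (0, 0, 1, 0, 0) + v.2.2.2.2.val • (1, 1, 2, 1, 1))))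

theorem E_Lf (v : V) : el rw' * E (Lf v) = E v * el rw' := by
  have key : ∀ {u w : V} {g : Suz}, el rw' * E u = g * el rw' → ∀ n : ℕ, el rw' * E (n • u) = g ^ n * el rw' := by
    intro u w g h n
    rw [E_nsmul]
    have h1 : E u = (el rw')⁻¹ * g * el rw' := by
      calc E u = (el rw')⁻¹ * (el rw' * E u) := by group
        _ = _ := by rw [h]; group
    have h2 : ((el rw')⁻¹ * g * el rw') ^ n = (el rw')⁻¹ * g ^ n * el rw' := by
      have := conj_pow (i := n) (a := (el rw')⁻¹) (b := g)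
      rwa [inv_inv] at this
    rw [h1, h2]; group
  have k2 : ∀ {u w : V} {g h : Suz}, el rw' * E u = g * el rw' → el rw' * E w = h * el rw' →
      el rw' * E (u + w) = (g * h) * el rw' := by
    intro u w g h h1 h2
    rw [E_add]
    calc el rw' * (E u * E w) = (el rw' * E u) * E w := by group
      _ = g * (el rw' * E w) := by rw [h1]; group
      _ = g * h * el rw' := by rw [h2]; group
  exact k2 (key (w := 0) ri_x0 _) (k2 (key (w := 0) ri_x1 _) (k2 (key (w := 0) ri_x2 _)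
    (k2 (key (w := 0) ri_x3 _) (key (w := 0) ri_x4 _))))

/-- a section of `L - 1` -/
def Sf (v : V) : V := v.1.val • (0, 0, 1, 0, 1) + (v.2.1.val • (0, 0, 2, 2, 1) + v.2.2.1.val • (0, 0, 0, 2, 0))

theorem Sf_spec : ∀ v : V, ∃ i j : ZMod 3, Lf (Sf v) + v = (0, 0, 0, i, j) + Sf v := by decide +kernel

/-- the nine elements -/
noncomputable def rt (i j : ZMod 3) : Suz := el rw' * E (0, 0, 0, i, j)

theorem rep_rt (i j : ZMod 3) : Rep (rt i j) (wd rw' ++ eW (0, 0, 0, i, j)) := (Rep.el _).mul (rep_E _)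

/-- the elements `r a` are conjugate to the nine elements -/
theorem conj_rt {a : Suz} (ha : a ∈ A0) : ∃ (c : Suz) (i j : ZMod 3), c * (el rw' * a) * c⁻¹ = rt i j := by
  obtain ⟨v, rfl⟩ := mem_A0.1 ha
  obtain ⟨i, j, h⟩ := Sf_spec v
  refine ⟨E (Sf v), i, j, ?_⟩
  have h1 := E_Lf (Sf v)
  have h2 := congrArg E h
  rw [E_add, E_add] at h2
  rw [rt]
  calc E (Sf v) * (el rw' * E v) * (E (Sf v))⁻¹ = (E (Sf v) * el rw') * E v * (E (Sf v))⁻¹ := by group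
    _ = el rw' * (E (Lf (Sf v)) * E v) * (E (Sf v))⁻¹ := by rw [← h1]; group
    _ = el rw' * E (0, 0, 0, i, j) := by rw [h2]; group

/-- the involutions -/
def iw (i j : ZMod 3) : List Suz.Gen :=
  if j = 0 then [.d, .c, .b, .g, .c, .a, .b, .f, .e, .c, .d, .c, .e, .f, .b, .a, .c, .g, .b, .c, .d]
  else if j = 1 then [.a, .b, .e, .d, .c, .b, .d, .c, .f, .g, .d, .e, .d, .c, .d, .b, .c, .d, .e, .d, .a]
  else [.c, .b, .g, .f, .d, .b, .c, .a, .b, .f, .d, .e, .b, .c, .d, .c, .b, .e, .d, .f, .b, .a, .c, .b, .d, .f, .g, .b, .c]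

/-- the check: the cube moves the point 0, or there is a commuting involution -/
noncomputable def chk (i j : ZMod 3) : Bool :=
  or (not (Nat.beq (appWord ((wd rw' ++ eW (0, 0, 0, i, j)) ++ (wd rw' ++ eW (0, 0, 0, i, j)) ++
      (wd rw' ++ eW (0, 0, 0, i, j))) (Nat.pow 2 0)) (Nat.pow 2 0)))
    (and (checkEq 11 (wd (iw i j) ++ (wd rw' ++ eW (0, 0, 0, i, j))) ((wd rw' ++ eW (0, 0, 0, i, j)) ++ wd (iw i j)))
      (and (checkEq 11 (wd (iw i j) ++ wd (iw i j)) []) (not (Nat.beq (appWord (wd (iw i j)) (Nat.pow 2 0)) (Nat.pow 2 0)))))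

theorem chk_all : ∀ i j : ZMod 3, chk i j = true := by
  intro i j
  fin_cases i <;> fin_cases j <;> decide +kernel

theorem pt_of_one {g : Suz} {w : List Net} (hr : Rep g w) (h : g = 1) (p : ℕ) :
    Nat.beq (appWord w (Nat.pow 2 p)) (Nat.pow 2 p) = true := by
  subst h
  have h2 : wperm w = 1 := by rw [← hr.eq, map_one]
  have h4 : appWord w (2 ^ p) = 2 ^ p := by
    apply Nat.eq_of_testBit_eq
    intro q
    rw [testBit_appWord hr.ok, h2]; rfl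
  rw [show appWord w (Nat.pow 2 p) = Nat.pow 2 p from h4]
  exact Nat.beq_refl _

theorem ev_rt {i j : ZMod 3} (h3 : rt i j ^ 3 = 1) : Ev (rt i j) := by
  have h := chk_all i j
  rw [chk, Bool.or_eq_true] at h
  rcases h with h | h
  · exfalso
    have h1 := pt_of_one (((rep_rt i j).mul (rep_rt i j)).mul (rep_rt i j)) (by rw [← h3, pow_succ, pow_two]) 0
    rw [h1] at h
    exact absurd h (by simp)
  · rw [Bool.and_eq_true, Bool.and_eq_true] at h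
    obtain ⟨h1, h2, h4⟩ := h
    refine ⟨el (iw i j), eq_of_reps ((Rep.el _).mul (Rep.el _)) Rep.one h2, ?_,
      eq_of_reps ((Rep.el _).mul (rep_rt i j)) ((rep_rt i j).mul (Rep.el _)) h1⟩
    intro h5
    rw [pt_of_one (Rep.el (iw i j)) h5] at h4
    exact absurd h4 (by simp)

/-! ### The elements outside `A0` -/

theorem ev_npr_rj : ∀ f : Ix, ev rj (ev rj (ev rj f)) = f := by decide +kernel

/-- the words for the images of the fourth special subgroup -/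
def wf : Ix → List Jx
  | .i4 => [.j4, .j2, .j1, .j3, .j2, .j1, .j0]
  | .i5 => [.j4, .j2, .j1, .j4, .j2, .j1, .j2]
  | .i6 => [.j4, .j2, .j1, .j3, .j1, .j4, .j1, .j3]
  | .i7 => [.j4, .j2, .j1, .j2, .j1, .j3, .j4, .j1]
  | .i8 => [.j4, .j2, .j1]
  | .i9 => [.j4, .j2, .j1, .j2, .j3, .j1, .j3, .j2]
  | .i10 => [.j4, .j2, .j1, .j1, .j3, .j2, .j0]
  | _ => []

theorem wf_spec : ∀ f : Ix, f ≠ .i0 → f ≠ .i1 → f ≠ .i2 → f ≠ .i3 →
    ev (wf f) .i0 = .i0 ∧ ev (wf f) .i1 = .i1 ∧ ev (wf f) .i2 = .i3 ∧ ev (wf f) .i3 = f ∧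
      (ev (wf f) f = .i2 → f = .i5) := by decide +kernel

theorem mem_of_agree {n m : NA} (h0 : n • Ix.i0 = m • Ix.i0) (h1 : n • Ix.i1 = m • Ix.i1)
    (h2 : n • Ix.i2 = m • Ix.i2) (h3 : n • Ix.i3 = m • Ix.i3) : ((m⁻¹ * n : NA) : Suz) ∈ A0 := by
  apply mem_of_fix
  · rw [mul_smul, h0, inv_smul_smul]
  · rw [mul_smul, h1, inv_smul_smul]
  · rw [mul_smul, h2, inv_smul_smul]
  · rw [mul_smul, h3, inv_smul_smul]

/-- an element with cube one of the normaliser fixing the first two special subgroups and moving the third to the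
fourth -/
theorem exists_r {n : NA} (h3 : (n : Suz) ^ 3 = 1) (h0 : n • Ix.i0 = Ix.i0) (h1 : n • Ix.i1 = Ix.i1)
    (h2 : n • Ix.i2 = Ix.i3) : ∃ a ∈ A0, (n : Suz) = el rw' * a := by
  have hn3 : n * n * n = 1 := by
    apply Subtype.ext
    show (n : Suz) * n * n = 1
    rw [← h3, pow_succ, pow_two]
  have hc : ∀ f : Ix, n • n • n • f = f := by
    intro f
    rw [← mul_smul, ← mul_smul, hn3, one_smul]
  obtain ⟨f, hf⟩ : ∃ f, n • Ix.i3 = f := ⟨_, rfl⟩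
  have hf2 : n • f = Ix.i2 := by
    rw [← hf, ← h2]; exact hc _
  have n0 : f ≠ .i0 := by
    rintro rfl
    rw [h0] at hf2
    exact absurd hf2 (by decide)
  have n1 : f ≠ .i1 := by
    rintro rfl
    rw [h1] at hf2
    exact absurd hf2 (by decide)
  have n2 : f ≠ .i2 := by
    rintro rfl
    rw [h2] at hf2
    exact absurd hf2 (by decide)
  have n3 : f ≠ .i3 := by
    rintro rfl
    rw [hf] at hf2
    exact absurd hf2 (by decide)
  obtain ⟨e0, e1, e2, e3, e4⟩ := wf_spec f n0 n1 n2 n3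
  have key : ((((npr (wf f))⁻¹ * n : NA)) : Suz) ∈ A0 := by
    apply mem_of_agree
    · rw [npr_smul, e0, h0]
    · rw [npr_smul, e1, h1]
    · rw [npr_smul, e2, h2]
    · rw [npr_smul, e3, hf]
  have h5 : f = .i5 := by
    apply e4
    rw [← npr_smul, ← hf2]
    have h6 := A0_smul key f
    rw [mul_smul, inv_smul_eq_iff] at h6
    exact h6.symm
  subst h5
  refine ⟨_, key, ?_⟩
  have h7 : ((npr (wf .i5) : NA) : Suz) = el rw' := coe_npr _
  rw [Subgroup.coe_mul, Subgroup.coe_inv, h7]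
  group

/-- **the elements of the normaliser** -/
theorem ev_NA {n : NA} (h3 : (n : Suz) ^ 3 = 1) : Ev (n : Suz) := by
  by_cases hA : (n : Suz) ∈ A0
  · exact ev_A0 hA
  have hn3 : n * n * n = 1 := by
    apply Subtype.ext
    show (n : Suz) * n * n = 1
    rw [← h3, pow_succ, pow_two]
  have hc : ∀ f : Ix, n • n • n • f = f := by
    intro f
    rw [← mul_smul, ← mul_smul, hn3, one_smul]
  -- a moved special subgroup
  obtain ⟨a, ha⟩ : ∃ a : Ix, n • a ≠ a := by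
    by_contra h
    push Not at h
    exact hA (mem_of_fix (h _) (h _) (h _) (h _))
  -- two fixed ones
  have hF : Fact (Nat.Prime 3) := ⟨Nat.prime_three⟩
  have hfin := finSuz
  have hp : IsPGroup 3 (zpowers n) := isPGroup_zpow hn3
  have hmod := hp.card_modEq_card_fixedPoints (α := Ix)
  have hset : ∀ f : Ix, f ∈ MulAction.fixedPoints (zpowers n) Ix ↔ n • f = f := by
    intro f
    rw [MulAction.mem_fixedPoints]
    constructor
    · intro h
      exact h ⟨n, mem_zpowers n⟩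
    · rintro h ⟨m, hm⟩
      have h4 : zpowers n ≤ MulAction.stabilizer NA f := by
        rw [zpowers_le]; exact h
      exact h4 hm
  obtain ⟨f, g, hfg, hf, hg⟩ : ∃ f g : Ix, f ≠ g ∧ n • f = f ∧ n • g = g := by
    by_contra hcon
    push Not at hcon
    have hsub : Subsingleton (MulAction.fixedPoints (zpowers n) Ix) := by
      refine ⟨fun p q => ?_⟩
      by_contra hne
      exact hcon p q (fun h => hne (Subtype.ext h)) ((hset _).1 p.2) ((hset _).1 q.2)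
    have h5 : Nat.card (MulAction.fixedPoints (zpowers n) Ix) ≤ 1 := Finite.card_le_one_iff_subsingleton.2 hsub
    have h6 : Nat.card Ix = 11 := by rw [Nat.card_eq_fintype_card, card_Ix]
    rw [h6] at hmod
    have h7 : 11 % 3 = Nat.card (MulAction.fixedPoints (zpowers n) Ix) % 3 := hmod
    interval_cases h8 : Nat.card (MulAction.fixedPoints (zpowers n) Ix) <;> omega
  have hab : n • a ≠ f := by
    intro h
    apply ha
    have h1 : n • a = n • f := by rw [h, hf]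
    have h2 := smul_left_cancel _ h1
    rw [h2, hf]
  have hag : n • a ≠ g := by
    intro h
    apply ha
    have h1 : n • a = n • g := by rw [h, hg]
    have h2 := smul_left_cancel _ h1
    rw [h2, hg]
  have haf : a ≠ f := by
    rintro rfl
    exact ha hf
  have hag' : a ≠ g := by
    rintro rfl
    exact ha hg
  obtain ⟨m, m0, m1, m2, m3⟩ := exists_npr f g a (n • a) (by
    simp only [List.nodup_cons, List.mem_cons, List.not_mem_nil, or_false, not_or, List.nodup_nil, and_true,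
      not_false_eq_true]
    exact ⟨⟨hfg, haf.symm, hab.symm⟩, ⟨hag'.symm, hag.symm⟩, ha.symm⟩)
  have hm : ∀ i j : Ix, n • (m • i) = m • j → (m⁻¹ * n * m) • i = j := by
    intro i j h
    rw [mul_smul, mul_smul, h, inv_smul_smul]
  obtain ⟨b, hb, hb'⟩ := exists_r (n := m⁻¹ * n * m) (by
      have h1 : ((m⁻¹ * n * m : NA) : Suz) ^ 3 = (((m⁻¹ * n * m) * (m⁻¹ * n * m) * (m⁻¹ * n * m) : NA) : Suz) := by
        rw [pow_succ, pow_two]; rfl
      rw [h1]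
      have h2 : (m⁻¹ * n * m) * (m⁻¹ * n * m) * (m⁻¹ * n * m) = m⁻¹ * (n * n * n) * m := by group
      rw [h2, hn3, mul_one, inv_mul_cancel]; rfl)
    (hm _ _ (by rw [m0, hf])) (hm _ _ (by rw [m1, hg])) (hm _ _ (by rw [m2, m3]))
  obtain ⟨c, i, j, hcij⟩ := conj_rt hb
  have h9 : (c * (m : Suz)⁻¹) * (n : Suz) * (c * (m : Suz)⁻¹)⁻¹ = rt i j := by
    rw [← hcij, ← hb']
    rw [Subgroup.coe_mul, Subgroup.coe_mul, Subgroup.coe_inv]; group
  refine Ev.of_conj (c * (m : Suz)⁻¹) ?_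
  rw [h9]
  apply ev_rt
  rw [← h9, conj_pow, h3]; group

/-- **Every element of order 3 of `Suz` commutes with an involution.** -/
theorem exists_inv {s : Suz} (hs : s ^ 3 = 1) : Ev s := by
  have hfin := finSuz
  have hF : Fact (Nat.Prime 3) := ⟨Nat.prime_three⟩
  obtain ⟨Q⟩ : Nonempty (Sylow 3 SuzThree.SylowThree.K) := inferInstance
  set P : Subgroup Suz := (Q : Subgroup SuzThree.SylowThree.K).map SuzThree.SylowThree.K.subtype with hP
  have hPp : IsPGroup 3 P := Q.2.map _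
  have hPc : Nat.card P = Nat.card (Q : Subgroup SuzThree.SylowThree.K) :=
    card_map_of_injective SuzThree.SylowThree.K.subtype_injective
  have hP7 : 3 ^ 7 ∣ Nat.card P := by
    rw [hPc]; exact Q.pow_dvd_card_of_pow_dvd_card SuzThree.SylowThree.card_dvd
  have hPN : P ≤ NA := by
    rintro _ ⟨q, hq, rfl⟩
    exact (SuzThree.SylowThree.mem_K.1 q.2).1
  obtain ⟨c, -, hc⟩ := Cfsg.Agent.SuzThree.GoodX.exists_conj_le (C := ⊤) (S := P) (X := zpowers s) le_top hPp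
    (isPGroup_zpow (by rw [← pow_two, ← pow_succ, hs])) (by
      rw [relIndex_top_right]
      intro h
      have h1 := P.card_mul_index
      rw [card_Suz] at h1
      have h2 : 3 ^ 7 * 3 ∣ 448345497600 := by
        rw [← h1]; exact mul_dvd_mul hP7 h
      norm_num at h2)
  have h1 : c * s * c⁻¹ ∈ NA := hPN (hc ⟨s, mem_zpowers s, rfl⟩)
  refine Ev.of_conj c ?_
  exact ev_NA (n := ⟨c * s * c⁻¹, h1⟩) (by
    show (c * s * c⁻¹) ^ 3 = 1
    rw [conj_pow, hs]; group)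

end Cfsg.Agent.H265.SuzEven
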