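import Cfsg.Agent.H516.OddFrame
import Cfsg.Agent.H265.SuzCent
import Cfsg.Agent.H812.SuzSeven

/-!
# S4095, S4096, S4094, S3842: the row `Suz`, `p` odd (helper265, task 557)
-/

set_option autoImplicit false

namespace Cfsg.Agent.H265.SuzRow

open Subgroup Cfsg Cfsg.Agent.H516
open Cfsg.Spor (Suz)

universe u

variable {L : Type u} [Group L]

/-! ### General tools -/

theorem card_centralizer_equiv {A B : Type*} [Group A] [Group B] (e : A ≃* B) (s : A) :
    Nat.card (centralizer ({e s} : Set B)) = Nat.card (centralizer ({s} : Set A)) := by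
  have h : (centralizer ({s} : Set A)).map e.toMonoidHom = centralizer ({e s} : Set B) := by
    ext y
    constructor
    · rintro ⟨c, hc, rfl⟩
      refine mem_centralizer_singleton_iff.2 ?_
      show e c * e s = e s * e c
      rw [← map_mul, mem_centralizer_singleton_iff.1 hc, map_mul]
    · intro hy
      refine ⟨e.symm y, mem_centralizer_singleton_iff.2 ?_, ?_⟩
      · apply e.injective
        rw [map_mul, map_mul, MulEquiv.apply_symm_apply]
        exact mem_centralizer_singleton_iff.1 hy
      · exact e.apply_symm_apply y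
  rw [← h]
  exact card_map_of_injective e.injective

/-- **`|C_L(x)|` is odd if `conj x` is a power `a ^ 2 ^ n`.** -/
theorem odd_centralizer [Finite L] {p : ℕ} {a : MulAut L} {b : L} (S : Sit p a b) {x : L} {n : ℕ}
    (hx : a ^ 2 ^ n = MulAut.conj x) : Odd (Nat.card (centralizer ({x} : Set L))) := by
  by_contra hodd
  rw [Nat.not_odd_iff_even] at hodd
  have hax : a x = x := conj_mem_fixed_of_zpowers (a := a) (by rw [← hx]; exact pow_mem (mem_zpowers a) _) S.good.center
  have hm := H516.map_centralizer hax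
  have h1 : (resAut a _ hm) ^ 2 ^ n = 1 := by
    ext s
    have h2 : ∀ k : ℕ, (((resAut a _ hm) ^ k) s : L) = (a ^ k) (s : L) := by
      intro k
      induction k with
      | zero => rfl
      | succ k ih =>
        rw [pow_succ', pow_succ', MulAut.mul_apply, MulAut.mul_apply, resAut_apply, ih]
    show (((resAut a _ hm) ^ 2 ^ n) s : L) = s
    rw [h2, hx, MulAut.conj_apply, ← mem_centralizer_singleton_iff.1 s.2, mul_inv_cancel_right]
  have h2 := even_fixed hodd h1
  have h3 : Nat.card (fixedSubgroup (resAut a _ hm)) ∣ Nat.card (fixedSubgroup a) := by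
    rw [← card_map_of_injective (centralizer ({x} : Set L)).subtype_injective (K := fixedSubgroup (resAut a _ hm))]
    apply card_dvd_of_le
    rintro _ ⟨s, hs, rfl⟩
    exact congrArg Subtype.val hs
  exact (Nat.not_even_iff_odd.2 (S.odd.of_dvd_nat h3)) h2

/-! ### The facts on `Suz` -/

theorem card_of_iso (h : Spor.IsoSuz L) : Nat.card L = 448345497600 := by
  obtain ⟨e⟩ := h
  rw [Nat.card_congr e.toEquiv]
  exact SporadicRecognition.SuzOrder.card_Suz

/-- **elements of order at least 5** (the odd part of the centralizer is at most 2025) -/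
theorem cent_big (h : Spor.IsoSuz L) {b : L} (hb : (orderOf b).Prime) (h2 : orderOf b ≠ 2) (h3 : orderOf b ≠ 3) :
    ∃ m : ℕ, m ≠ 0 ∧ m ≤ 2025 ∧ Nat.card (centralizer ({b} : Set L)) ∣ 2 ^ 13 * m := by
  obtain ⟨e⟩ := h
  have ho : orderOf (e b) = orderOf b := MulEquiv.orderOf_eq e b
  obtain ⟨m, hm, hle, h⟩ := SuzCent.dvd_big (s := e b) (by rw [ho]; exact hb) (by rw [ho]; exact h2) (by rw [ho]; exact h3)
  exact ⟨m, hm, hle, by rw [← card_centralizer_equiv e]; exact h⟩

/-- the form wanted for S4094: the centralizer of an element of prime order at least 5 has even order, or order less than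
`|L|_2 / 3` -/
theorem even_or (h : Spor.IsoSuz L) {b : L} (hb : (orderOf b).Prime) (h2 : orderOf b ≠ 2) (h3 : orderOf b ≠ 3) :
    Even (Nat.card (centralizer ({b} : Set L))) ∨ 3 * Nat.card (centralizer ({b} : Set L)) < 2 ^ 13 := by
  obtain ⟨m, hm, hle, hd⟩ := cent_big h hb h2 h3
  rcases Nat.even_or_odd (Nat.card (centralizer ({b} : Set L))) with h4 | h4
  · exact Or.inl h4
  · right
    have h5 : Nat.card (centralizer ({b} : Set L)) ∣ m :=
      (Nat.Coprime.pow_right 13 (Nat.coprime_two_right.2 h4)).dvd_of_dvd_mul_left hd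
    have h6 := Nat.le_of_dvd (Nat.pos_of_ne_zero hm) h5
    omega

theorem cent_three (h : Spor.IsoSuz L) {b : L} (hb : orderOf b = 3) :
    Nat.card (centralizer ({b} : Set L)) ∣ 2 ^ 13 * 76545 := by
  obtain ⟨e⟩ := h
  rw [← card_centralizer_equiv e]
  exact SuzCent.dvd_three (by rw [MulEquiv.orderOf_eq e b]; exact hb)

/-- **the odd part of the centralizer of an element of odd prime order is at most 76545** -/
theorem cent_odd (h : Spor.IsoSuz L) {b : L} (hb : (orderOf b).Prime) (h2 : orderOf b ≠ 2) :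
    ∃ m : ℕ, m ≠ 0 ∧ m ≤ 76545 ∧ Nat.card (centralizer ({b} : Set L)) ∣ 2 ^ 13 * m := by
  by_cases h3 : orderOf b = 3
  · exact ⟨76545, by norm_num, le_rfl, cent_three h h3⟩
  · obtain ⟨m, hm, hle, hd⟩ := cent_big h hb h2 h3
    exact ⟨m, hm, by omega, hd⟩

/-- the elements `x` with `x ^ 3 = 1` have centralizers of even order -/
theorem even_three (h : Spor.IsoSuz L) {x : L} (hx : x ^ 3 = 1) : Even (Nat.card (centralizer ({x} : Set L))) := by
  obtain ⟨e⟩ := h
  rw [← card_centralizer_equiv e]
  exact SuzCent.even_three (by rw [← map_pow, hx, map_one])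

theorem exists_A [Finite L] (h : Spor.IsoSuz L) {F : Subgroup L} (hF : 3 ^ 7 ∣ Nat.card F) :
    ∃ A : Subgroup L, A ≤ F ∧ (∀ a ∈ A, a ^ 3 = 1) ∧ ∀ c : L, (∀ a ∈ A, c * a = a * c) → c ∈ A := by
  obtain ⟨e⟩ := h
  obtain ⟨A, h1, h2, h3⟩ := SuzCent.exists_A (F := F.map e.toMonoidHom)
    (by rw [card_map_of_injective e.injective]; exact hF)
  refine ⟨A.comap e.toMonoidHom, ?_, ?_, ?_⟩
  · intro s hs
    obtain ⟨t, ht, hts⟩ := h1 hs
    rw [← e.injective hts]
    exact ht
  · intro s hs
    apply e.injective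
    rw [map_pow, map_one]
    exact h2 _ hs
  · intro c hc
    apply h3
    intro t ht
    have h4 := hc (e.symm t) (by
      show e (e.symm t) ∈ A
      rw [MulEquiv.apply_symm_apply]; exact ht)
    have h5 := congrArg e h4
    rw [map_mul, map_mul, MulEquiv.apply_symm_apply] at h5
    exact h5

/-- a subgroup of odd order of a normalizer of a Sylow 7-subgroup -/
theorem seven (h : Spor.IsoSuz L) [Finite L] {F : Subgroup L} (hodd : Odd (Nat.card F)) (h7 : 7 ∣ Nat.card F) :
    ∃ n k : ℕ, n * k = Nat.card F ∧ k ∣ 63 ∧ n % 7 = 1 := by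
  have hF7 : Fact (Nat.Prime 7) := ⟨by norm_num⟩
  obtain ⟨V⟩ : Nonempty (Sylow 7 F) := inferInstance
  have hcL := card_of_iso h
  -- the Sylow subgroup of `L`
  have hV7 : 7 ∣ Nat.card (V : Subgroup F) := by
    have : 7 ^ 1 ∣ Nat.card (V : Subgroup F) := V.pow_dvd_card_of_pow_dvd_card (by rwa [pow_one])
    rwa [pow_one] at this
  set W : Subgroup L := (V : Subgroup F).map F.subtype with hW
  have hWc : Nat.card W = Nat.card (V : Subgroup F) := card_map_of_injective F.subtype_injective
  have hWp : IsPGroup 7 W := V.2.map _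
  obtain ⟨B, hB⟩ := hWp.exists_le_sylow
  have hBc : Nat.card (B : Subgroup L) = 7 := by
    rw [B.card_eq_multiplicity, hcL, show (448345497600 : ℕ) = 7 ^ 1 * 64049356800 by norm_num,
      Nat.factorization_mul (by norm_num) (by norm_num), Finsupp.add_apply,
      Nat.Prime.factorization_pow (by norm_num), Finsupp.single_eq_same,
      Nat.factorization_eq_zero_of_not_dvd (by norm_num)]
    norm_num
  have hWB : W = B := by
    apply Subgroup.eq_of_le_of_card_ge hB
    rw [hBc, hWc]
    exact Nat.le_of_dvd Nat.card_pos hV7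
  have hN := (H812.SuzSeven.main h B).2
  have hdvd : Nat.card (normalizer ((V : Subgroup F) : Set F)) ∣ 504 := by
    rw [← hN, ← card_map_of_injective F.subtype_injective (K := normalizer ((V : Subgroup F) : Set F))]
    apply card_dvd_of_le
    rintro _ ⟨s, hs, rfl⟩
    rw [← hWB]
    have hs := mem_normalizer_iff.1 (SetLike.mem_coe.1 hs)
    refine mem_normalizer_iff.2 fun y => ?_
    constructor
    · rintro ⟨v, hv, rfl⟩
      exact ⟨_, (hs v).1 hv, rfl⟩
    · rintro ⟨v, hv, hvy⟩
      have h1 : F.subtype v = (s : L) * y * (s : L)⁻¹ := hvy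
      have h2 : y = F.subtype (s⁻¹ * v * s) := by
        rw [map_mul, map_mul, h1, map_inv]
        show y = (s : L)⁻¹ * ((s : L) * y * (s : L)⁻¹) * (s : L)
        group
      refine ⟨s⁻¹ * v * s, (hs _).2 ?_, h2.symm⟩
      have h3 : s * (s⁻¹ * v * s) * s⁻¹ = v := by group
      rw [h3]; exact hv
  refine ⟨Nat.card (Sylow 7 F), Nat.card (normalizer ((V : Subgroup F) : Set F)), ?_, ?_, card_sylow_modEq_one 7 F⟩
  · rw [V.card_eq_index_normalizer, mul_comm]
    exact card_mul_index _
  · have h1 : Odd (Nat.card (normalizer ((V : Subgroup F) : Set F))) := hodd.of_dvd_nat (card_subgroup_dvd_card _)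
    have h2 : Nat.card (normalizer ((V : Subgroup F) : Set F)) ∣ 2 ^ 3 * 63 := hdvd
    exact (Nat.Coprime.pow_right 3 (Nat.coprime_two_right.2 h1)).dvd_of_dvd_mul_left h2

/-! ### The row -/

theorem not_three_seven [Finite L] (h : Spor.IsoSuz L) {p : ℕ} {a : MulAut L} {b : L} (S : Sit p a b) :
    ¬ 3 ^ 7 ∣ Nat.card (fixedSubgroup a) := by
  intro h37
  obtain ⟨A, hA, hA3, hAc⟩ := exists_A h h37
  obtain ⟨n, m, hm, hn⟩ := Nat.exists_eq_pow_mul_and_not_dvd (orderOf_pos a).ne' 2 (by norm_num)
  have hmodd : Odd m := by rw [← Nat.not_even_iff_odd, even_iff_two_dvd]; exact hm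
  have ho : orderOf (a ^ 2 ^ n) = m := by
    rw [orderOf_pow_of_dvd (pow_ne_zero _ (by norm_num)) (by rw [hn]; exact dvd_mul_right _ _), hn,
      Nat.mul_div_cancel_left _ (pow_pos (by norm_num) _)]
  obtain ⟨x, hx⟩ := S.good.oi (a ^ 2 ^ n) (by rw [ho]; exact hmodd)
  have hxA : x ∈ A := by
    apply hAc
    intro s hs
    have h1 : zpowers a ≤ MulAction.stabilizer (MulAut L) s := by
      rw [zpowers_le]
      exact hA hs
    have h2 : MulAut.conj x s = s := by rw [← hx]; exact h1 (pow_mem (mem_zpowers a) _)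
    rw [MulAut.conj_apply, mul_inv_eq_iff_eq_mul] at h2
    exact h2
  exact (Nat.not_even_iff_odd.2 (odd_centralizer S hx)) (even_three h (hA3 x hxA))

/-- **The row `Suz`.** -/
theorem row {L : Type u} [Group L] [Finite L] (h : Spor.IsoSuz L) {p : ℕ} {a : MulAut L} {b : L}
    (S : Cfsg.Agent.H516.Sit p a b) : False := by
  have hcL := card_of_iso h
  have h213 : 2 ^ 13 ∣ Nat.card L := by rw [hcL]; norm_num
  by_cases h3 : orderOf b = 3
  · have hd := S.card_dvd (cent_three h h3)
    have hle := S.two_pow_le h213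
    have h37 := not_three_seven h S
    have hodd := S.odd
    -- `|F|` divides `3 ^ 6 * 35`
    have hd6 : Nat.card (fixedSubgroup a) ∣ 3 ^ 6 * 35 :=
      SuzCent.drop (q := 3) (k := 6) (e := 7) (A := 35) Nat.prime_three (hd.trans (by norm_num)) h37
    have hcases : Nat.card (fixedSubgroup a) = 25515 ∨ Nat.card (fixedSubgroup a) = 8505 := by
      obtain ⟨c, hc⟩ := hd6
      have hc3 : c ≤ 3 := by
        by_contra hlt
        have : 4 * Nat.card (fixedSubgroup a) ≤ Nat.card (fixedSubgroup a) * c := by nlinarith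
        omega
      interval_cases c
      · omega
      · left; omega
      · omega
      · right; omega
    obtain ⟨n, k, hnk, hk, hn7⟩ := seven h hodd (by rcases hcases with h | h <;> rw [h] <;> norm_num)
    have hk0 : k ≤ 63 := Nat.le_of_dvd (by norm_num) hk
    have hdiv : ∀ N : ℕ, n * k = N → N = 25515 ∨ N = 8505 → False := by
      intro N hN hNc
      interval_cases k <;> first | (revert hk; decide) | omega
    exact hdiv _ hnk hcases
  · obtain ⟨m, hm, hle, hd⟩ := cent_big h S.bprime S.b_ne_two h3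
    exact S.false_of_dvd h213 hd hm (by omega)

end Cfsg.Agent.H265.SuzRow
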